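import Groth.Agent.PLieLib.Jacobson
import Groth.Agent.PBW.Basic
import Groth.Agent.DHA.LieAdPow
import Mathlib.LinearAlgebra.Quotient.Basic

/-!
# A faithful restricted representation

Given a basis `b` and elements `y i` with `(ad (b i)) ^ p = ad (y i)`, the PBW representation modulo
the image of the central operators `ρ (b i) ^ p - ρ (y i)` is faithful and satisfies
`ρ (b i) ^ p = ρ (y i)`; it is finite over the base if the basis is finite.
-/

universe u v w
open scoped BigOperators

namespace PLieLib

open Groth.Agent

attribute [local instance 100] LieRing.ofAssociativeRing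

variable {R : Type u} [CommRing R] {p : ℕ} [hp : Fact p.Prime] [CharP R p]
  {L : Type v} [LieRing L] [LieAlgebra R L] {ι : Type w} [LinearOrder ι]
  (b : Module.Basis ι R L) (y : ι → L)

noncomputable section

/-- The central operators. -/
def cen (p : ℕ) (i : ι) : Module.End R (PBW.Mo R ι) := PBW.act b (b i) ^ p - PBW.act b (y i)

lemma act_mapsTo (x : L) {n : ℕ} {v : PBW.Mo R ι} (hv : v ∈ PBW.F R n) :
    PBW.act b x v ∈ PBW.F R (n + 1) := by
  refine PBW.map_mem_of_gen (PBW.act b x) (fun s hs => ?_) hv
  change PBW.A b x (PBW.z s) ∈ _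
  rw [PBW.A, PBW.constr_apply']
  refine Submodule.sum_mem _ fun l _ => Submodule.smul_mem _ _ ?_
  rw [← sub_add_cancel (PBW.σ b l (PBW.z s)) (PBW.z (l ::ₘ s))]
  refine add_mem (PBW.F_mono (by omega) (PBW.σ_sub_mem b l s)) (PBW.z_mem_F ?_)
  rw [Multiset.card_cons]; omega

lemma act_pow_mapsTo (x : L) (m : ℕ) {n : ℕ} {v : PBW.Mo R ι} (hv : v ∈ PBW.F R n) :
    (PBW.act b x ^ m) v ∈ PBW.F R (n + m) := by
  induction m with
  | zero => simpa using hv
  | succ m ih =>
    rw [pow_succ', Module.End.mul_apply, ← Nat.add_assoc]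
    exact act_mapsTo b x ih

include hp in
omit [CharP R p] in
lemma cen_mapsTo (i : ι) {n : ℕ} {v : PBW.Mo R ι} (hv : v ∈ PBW.F R n) :
    cen b y p i v ∈ PBW.F R (n + p) := by
  rw [cen, LinearMap.sub_apply]
  exact sub_mem (act_pow_mapsTo b _ p hv)
    (PBW.F_mono (by have := hp.out.one_le; omega) (act_mapsTo b _ hv))

lemma act_pow_lead (i : ι) (m : ℕ) (s : Multiset ι) :
    (PBW.act b (b i) ^ m) (PBW.z s) - PBW.z (Multiset.replicate m i + s) ∈
      PBW.F R (Multiset.card s + m - 1) := by
  induction m with
  | zero => simp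
  | succ m ih =>
    rw [Multiset.replicate_succ, Multiset.cons_add, pow_succ', Module.End.mul_apply,
      ← sub_add_cancel ((PBW.act b (b i) ^ m) (PBW.z s)) (PBW.z (Multiset.replicate m i + s)),
      map_add, add_sub_assoc]
    refine add_mem ?_ ?_
    · rcases Nat.eq_zero_or_pos m with rfl | hm
      · simp
      · exact PBW.F_mono (by omega) (act_mapsTo b (b i) ih)
    · have h : PBW.act b (b i) (PBW.z (Multiset.replicate m i + s)) =
          PBW.σ b i (PBW.z (Multiset.replicate m i + s)) :=
        LinearMap.congr_fun (PBW.A_basis b i) _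
      rw [h]
      refine PBW.F_mono ?_ (PBW.σ_sub_mem b i _)
      rw [Multiset.card_add, Multiset.card_replicate]; omega

include hp in
omit [CharP R p] in
lemma cen_lead (i : ι) (s : Multiset ι) :
    cen b y p i (PBW.z s) - PBW.z (Multiset.replicate p i + s) ∈
      PBW.F R (Multiset.card s + p - 1) := by
  rw [cen, LinearMap.sub_apply, sub_right_comm]
  exact sub_mem (act_pow_lead b i p s)
    (PBW.F_mono (by have := hp.out.two_le; omega) (act_mapsTo b _ (PBW.z_mem_F le_rfl)))

variable (p) in
/-- The compatibility condition on `y`. -/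
def AdCond : Prop := ∀ i, LieAlgebra.ad R L (b i) ^ p = LieAlgebra.ad R L (y i)

variable {b y}

lemma cen_commute_act (hy : AdCond p b y) (i : ι) (x : L) :
    Commute (cen b y p i) (PBW.act b x) := by
  have h1 : ⁅PBW.act b (b i) ^ p, PBW.act b x⁆ = ⁅PBW.act b (y i), PBW.act b x⁆ := by
    rw [← LieAlgebra.ad_apply R, ← ad_pow_p, ← DHA.LieAdPow.map_ad_pow, hy i, LieAlgebra.ad_apply,
      LieHom.map_lie]
  have h1' : (PBW.act b (b i) ^ p) * PBW.act b x - PBW.act b x * (PBW.act b (b i) ^ p) =
      PBW.act b (y i) * PBW.act b x - PBW.act b x * PBW.act b (y i) := h1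
  refine LinearMap.ext fun v => ?_
  have h := LinearMap.congr_fun h1' v
  simp only [LinearMap.sub_apply, Module.End.mul_apply, cen, map_sub] at h ⊢
  rw [sub_eq_sub_iff_sub_eq_sub]
  exact h

lemma cen_commute (hy : AdCond p b y) (i j : ι) : Commute (cen b y p i) (cen b y p j) := by
  refine LinearMap.ext fun v => ?_
  have h1 := LinearMap.congr_fun ((cen_commute_act hy i (b j)).pow_right p).eq v
  have h2 := LinearMap.congr_fun (cen_commute_act hy i (y j)).eq v
  simp only [Module.End.mul_apply] at h1 h2 ⊢
  rw [show cen b y p j v = (PBW.act b (b j) ^ p) v - PBW.act b (y j) v from rfl, map_sub, h1, h2]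
  rfl

variable (b y) in
variable (p) in
/-- The monomials adapted to the central operators. -/
def M (s : Multiset ι) : PBW.Mo R ι :=
  haveI := Classical.propDecidable (∃ i, p ≤ s.count i)
  if h : 0 < p ∧ ∃ i, p ≤ s.count i then
    cen b y p h.2.choose (M (s - Multiset.replicate p h.2.choose))
  else PBW.z s
termination_by Multiset.card s
decreasing_by
  have hle : Multiset.replicate p h.2.choose ≤ s :=
    Multiset.le_count_iff_replicate_le.1 h.2.choose_spec
  rw [Multiset.card_sub hle, Multiset.card_replicate]
  have := Multiset.card_le_card hle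
  rw [Multiset.card_replicate] at this
  omega

omit hp [CharP R p] in
lemma M_of_reduced {s : Multiset ι} (h : ∀ i, s.count i < p) : M p b y s = PBW.z s := by
  rw [M, dif_neg]
  rintro ⟨-, i, hi⟩
  exact absurd hi (by convert (h i).not_ge)

include hp in
omit [CharP R p] in
lemma M_eq_cen_choose (s : Multiset ι) (h : ∃ i, p ≤ s.count i) :
    ∃ i, p ≤ s.count i ∧ M p b y s = cen b y p i (M p b y (s - Multiset.replicate p i)) := by
  have h' : 0 < p ∧ ∃ i, p ≤ s.count i := ⟨hp.out.pos, h⟩
  classical
  rw [M, dif_pos h']
  exact ⟨h'.2.choose, h'.2.choose_spec, rfl⟩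

/-- `cen i (M t) = M (t + p·i)`. -/
lemma cen_M (hy : AdCond p b y) : ∀ (n : ℕ) (t : Multiset ι) (i : ι), Multiset.card t = n →
    cen b y p i (M p b y t) = M p b y (Multiset.replicate p i + t) := by
  intro n
  induction n using Nat.strong_induction_on with
  | _ n ih =>
  intro t i hn
  classical
  obtain ⟨j, hj, e⟩ := M_eq_cen_choose (b := b) (y := y) (p := p) (Multiset.replicate p i + t)
    ⟨i, by rw [Multiset.count_add, Multiset.count_replicate_self]; omega⟩
  rw [e]
  rcases eq_or_ne j i with rfl | hji
  · rw [add_tsub_cancel_left]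
  · rw [Multiset.count_add, Multiset.count_replicate, if_neg hji.symm, zero_add] at hj
    have hle : Multiset.replicate p j ≤ t := Multiset.le_count_iff_replicate_le.1 hj
    obtain ⟨t', rfl⟩ := Multiset.le_iff_exists_add.1 hle
    have hcard : Multiset.card t' < n := by
      rw [← hn, Multiset.card_add, Multiset.card_replicate]
      have := hp.out.pos; omega
    rw [← ih _ hcard t' j rfl,
      show Multiset.replicate p i + (Multiset.replicate p j + t') =
        Multiset.replicate p j + (Multiset.replicate p i + t') from add_left_comm _ _ _,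
      add_tsub_cancel_left, ← ih _ hcard t' i rfl, ← Module.End.mul_apply, ← Module.End.mul_apply,
      (cen_commute hy i j).eq]

lemma M_lead (hy : AdCond p b y) : ∀ (n : ℕ) (s : Multiset ι), Multiset.card s = n →
    M p b y s - PBW.z s ∈ PBW.F R (n - 1) := by
  intro n
  induction n using Nat.strong_induction_on with
  | _ n ih =>
  intro s hn
  classical
  by_cases h : ∃ i, p ≤ s.count i
  · obtain ⟨i, hi⟩ := h
    obtain ⟨t, rfl⟩ := Multiset.le_iff_exists_add.1 (Multiset.le_count_iff_replicate_le.1 hi)
    rw [Multiset.card_add, Multiset.card_replicate] at hn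
    have hp0 := hp.out.pos
    rw [← cen_M hy _ t i rfl, ← sub_add_cancel (M p b y t) (PBW.z t), map_add, add_sub_assoc]
    refine add_mem ?_ (PBW.F_mono (by omega) (cen_lead b y i t))
    rcases Nat.eq_zero_or_pos (Multiset.card t) with ht | ht
    · obtain rfl := Multiset.card_eq_zero.1 ht
      rw [M_of_reduced (fun i => by simp [hp0]), sub_self, map_zero]
      exact zero_mem _
    · exact PBW.F_mono (by omega) (cen_mapsTo b y i (ih _ (by omega) t rfl))
  · rw [M_of_reduced (fun i => not_le.1 fun h' => h ⟨i, h'⟩), sub_self]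
    exact zero_mem _

variable (p b y) in
/-- The change of basis. -/
def theta : PBW.Mo R ι →ₗ[R] PBW.Mo R ι := Finsupp.linearCombination R (M p b y)

omit hp [CharP R p] in
lemma theta_z (s : Multiset ι) : theta p b y (PBW.z s) = M p b y s := by
  rw [theta, PBW.z, Finsupp.linearCombination_single, one_smul]

omit hp [CharP R p] [LinearOrder ι] in
lemma F_eq_supported (n : ℕ) :
    PBW.F (ι := ι) R n = Finsupp.supported R R {s : Multiset ι | Multiset.card s ≤ n} := by
  rw [Finsupp.supported_eq_span_single, PBW.F]
  congr 1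
  ext m
  constructor
  · rintro ⟨s, hs, rfl⟩; exact ⟨s, hs, rfl⟩
  · rintro ⟨s, hs, rfl⟩; exact ⟨s, hs, rfl⟩

lemma theta_injective (hy : AdCond p b y) : Function.Injective (theta p b y) := by
  rw [injective_iff_map_eq_zero]
  intro v hv
  by_contra hne
  obtain ⟨s, hs, hmax⟩ := v.support.exists_max_image Multiset.card
    (Finsupp.support_nonempty_iff.2 hne)
  have h0 : theta p b y v - v = v.sum fun t a => a • (M p b y t - PBW.z t) := by
    conv_lhs => arg 2; rw [← Finsupp.sum_single v]
    rw [theta, Finsupp.linearCombination_apply, Finsupp.sum, Finsupp.sum, Finsupp.sum,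
      ← Finset.sum_sub_distrib]
    refine Finset.sum_congr rfl fun t _ => ?_
    rw [smul_sub, PBW.z, Finsupp.smul_single', mul_one]
  rw [hv, zero_sub] at h0
  have hco : (v.sum fun t a => a • (M p b y t - PBW.z t) : PBW.Mo R ι) s = 0 := by
    rw [Finsupp.sum, Finsupp.finsetSum_apply]
    refine Finset.sum_eq_zero fun t ht => ?_
    rw [Finsupp.smul_apply]
    rcases Nat.eq_zero_or_pos (Multiset.card t) with h | h
    · obtain rfl := Multiset.card_eq_zero.1 h
      rw [M_of_reduced (fun i => by simp [hp.out.pos]), sub_self, Finsupp.zero_apply, smul_zero]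
    · have hm := M_lead hy _ t rfl
      rw [F_eq_supported, Finsupp.mem_supported'] at hm
      rw [hm s (by have := hmax t ht; simp only [Set.mem_ofPred_eq]; omega), smul_zero]
  rw [← h0, Finsupp.neg_apply, neg_eq_zero] at hco
  exact (Finsupp.mem_support_iff.1 hs) hco

lemma theta_surjective (hy : AdCond p b y) : Function.Surjective (theta p b y) := by
  have key : ∀ n, PBW.F R n ≤ LinearMap.range (theta p b y) := by
    intro n
    induction n using Nat.strong_induction_on with
    | _ n ih =>
    refine Submodule.span_le.2 ?_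
    rintro _ ⟨s, hs, rfl⟩
    rw [← sub_sub_cancel (M p b y s) (PBW.z s)]
    refine sub_mem ⟨_, theta_z s⟩ ?_
    rcases Nat.eq_zero_or_pos (Multiset.card s) with h | h
    · obtain rfl := Multiset.card_eq_zero.1 h
      rw [M_of_reduced (fun i => by simp [hp.out.pos]), sub_self]
      exact zero_mem _
    · exact ih _ (by omega) (M_lead hy _ s rfl)
  intro v
  induction v using Finsupp.induction_linear with
  | zero => exact ⟨0, map_zero _⟩
  | add f g hf hg =>
    obtain ⟨a, rfl⟩ := hf; obtain ⟨c, rfl⟩ := hg
    exact ⟨a + c, map_add _ _ _⟩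
  | single s a =>
    have h : Finsupp.single s a = a • PBW.z (k := R) s := by simp [PBW.z, Finsupp.smul_single]
    rw [h]
    exact (LinearMap.range (theta p b y)).smul_mem a (key _ (PBW.z_mem_F le_rfl))

variable (p b y) in
/-- The submodule divided out. -/
def Q : Submodule R (PBW.Mo R ι) :=
  (Finsupp.supported R R {s : Multiset ι | ∃ i, p ≤ s.count i}).map (theta p b y)

lemma cen_range_le (hy : AdCond p b y) (i : ι) (v : PBW.Mo R ι) : cen b y p i v ∈ Q p b y := by
  obtain ⟨v, rfl⟩ := theta_surjective hy v
  induction v using Finsupp.induction_linear with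
  | zero => simp
  | add f g hf hg => rw [map_add, map_add]; exact add_mem hf hg
  | single s a =>
    classical
    rw [theta, Finsupp.linearCombination_single, map_smul, cen_M hy _ s i rfl, ← theta_z]
    refine Submodule.smul_mem _ _ (Submodule.mem_map_of_mem (Finsupp.single_mem_supported _ _ ?_))
    exact ⟨i, by rw [Multiset.count_add, Multiset.count_replicate_self]; omega⟩

lemma act_Q_le (hy : AdCond p b y) (x : L) : Q p b y ≤ (Q p b y).comap (PBW.act b x) := by
  rw [Q, Submodule.map_le_iff_le_comap, Finsupp.supported_eq_span_single, Submodule.span_le]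
  rintro _ ⟨s, ⟨i, hi⟩, rfl⟩
  simp only [SetLike.mem_coe, Submodule.mem_comap]
  obtain ⟨t, rfl⟩ := Multiset.le_iff_exists_add.1 (Multiset.le_count_iff_replicate_le.1 hi)
  show PBW.act b x (theta p b y (PBW.z (Multiset.replicate p i + t))) ∈ _
  rw [theta_z, ← cen_M hy _ t i rfl, ← Module.End.mul_apply, ← (cen_commute_act hy i x).eq,
    Module.End.mul_apply, ← Finsupp.supported_eq_span_single]
  exact cen_range_le hy i _

variable (p b y) in
/-- The representation space. -/
abbrev W : Type max u w := PBW.Mo R ι ⧸ Q p b y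

/-- The representation. -/
def rep (hy : AdCond p b y) : L →ₗ⁅R⁆ Module.End R (W p b y) where
  toFun x := (Q p b y).mapQ (Q p b y) (PBW.act b x) (act_Q_le hy x)
  map_add' x x' := Submodule.linearMap_qext _ (LinearMap.ext fun v => by
    simp [map_add])
  map_smul' c x := Submodule.linearMap_qext _ (LinearMap.ext fun v => by
    simp [map_smul])
  map_lie' {x x'} := Submodule.linearMap_qext _ (LinearMap.ext fun v => by
    simp [LieHom.map_lie, Ring.lie_def])

lemma rep_apply (hy : AdCond p b y) (x : L) (v : PBW.Mo R ι) :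
    rep hy x (Submodule.Quotient.mk v) = Submodule.Quotient.mk (PBW.act b x v) := rfl

lemma rep_pow (hy : AdCond p b y) (i : ι) : rep hy (b i) ^ p = rep hy (y i) := by
  have h : ∀ (n : ℕ) v, (rep hy (b i) ^ n) (Submodule.Quotient.mk v) =
      Submodule.Quotient.mk ((PBW.act b (b i) ^ n) v) := by
    intro n
    induction n with
    | zero => intro v; simp
    | succ n ih => intro v; rw [pow_succ, Module.End.mul_apply, rep_apply, ih, pow_succ, Module.End.mul_apply]
  refine Submodule.linearMap_qext _ (LinearMap.ext fun v => ?_)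
  simp only [LinearMap.comp_apply, Submodule.mkQ_apply, h, rep_apply, Submodule.Quotient.eq]
  exact cen_range_le hy i v

lemma rep_injective (hy : AdCond p b y) : Function.Injective (rep hy) := by
  rw [injective_iff_map_eq_zero]
  intro x hx
  have h := congrArg (fun f : Module.End R (W p b y) => f (Submodule.Quotient.mk (PBW.z 0))) hx
  simp only [rep_apply, LinearMap.zero_apply, Submodule.Quotient.mk_eq_zero] at h
  obtain ⟨v, hv, hv'⟩ := Submodule.mem_map.1 h
  let e : PBW.Mo R ι := (b.repr x).sum fun l a => a • PBW.z ({l} : Multiset ι)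
  have he : PBW.act b x (PBW.z 0) = theta p b y e := by
    change PBW.A b x (PBW.z 0) = _
    rw [PBW.A, PBW.constr_apply', map_finsuppSum]
    refine Finsupp.sum_congr fun l _ => ?_
    rw [map_smul, theta_z, M_of_reduced, PBW.σ_of_le b (fun a ha => absurd ha (Multiset.notMem_zero a))]
    · rfl
    · intro i
      have h1 := Multiset.count_le_card i ({l} : Multiset ι)
      rw [Multiset.card_singleton] at h1
      have := hp.out.two_le; omega
  rw [he] at hv'
  obtain rfl := theta_injective hy hv'
  refine b.repr.injective (Finsupp.ext fun l => ?_)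
  have hl := (Finsupp.mem_supported' R _).1 hv {l} (by
    simp only [Set.mem_ofPred_eq, not_exists, not_le]
    intro i
    have h1 := Multiset.count_le_card i ({l} : Multiset ι)
    rw [Multiset.card_singleton] at h1
    have := hp.out.two_le; omega)
  simp only [e] at hl
  rw [Finsupp.sum, Finsupp.finsetSum_apply, Finset.sum_eq_single l] at hl
  · simpa [PBW.z] using hl
  · intro m _ hm
    simp [PBW.z, hm]
  · intro hm
    simp [Finsupp.notMem_support_iff.1 hm]

lemma finite_W [Finite ι] (hy : AdCond p b y) : Module.Finite R (W p b y) := by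
  classical
  have := Fintype.ofFinite ι
  let T := (p • (Finset.univ : Finset ι).val).powerset.toFinset
  refine ⟨⟨T.image fun s => Submodule.Quotient.mk (M p b y s), ?_⟩⟩
  rw [eq_top_iff]
  rintro q -
  obtain ⟨v, rfl⟩ := Submodule.Quotient.mk_surjective _ q
  obtain ⟨v, rfl⟩ := theta_surjective hy v
  induction v using Finsupp.induction_linear with
  | zero => simp
  | add f g hf hg => rw [map_add, Submodule.Quotient.mk_add]; exact add_mem hf hg
  | single s a =>
    rw [theta, Finsupp.linearCombination_single, Submodule.Quotient.mk_smul]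
    refine Submodule.smul_mem _ _ ?_
    by_cases h : ∃ i, p ≤ s.count i
    · rw [(Submodule.Quotient.mk_eq_zero _).2 (theta_z (p := p) (b := b) (y := y) s ▸
        Submodule.mem_map_of_mem (Finsupp.single_mem_supported _ _ h))]
      exact zero_mem _
    · refine Submodule.subset_span (Finset.mem_coe.2 (Finset.mem_image_of_mem _ ?_))
      rw [Multiset.mem_toFinset, Multiset.mem_powerset, Multiset.le_iff_count]
      intro i
      rw [Multiset.count_nsmul, Multiset.count_eq_one_of_mem Finset.univ.nodup (Finset.mem_univ i)]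
      have := not_le.1 fun h' => h ⟨i, h'⟩
      omega

end

end PLieLib
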