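import Groth.Agent.PLieLib.Enveloping

/-!
# Existence and uniqueness of `p`-maps with prescribed values on a basis
-/

universe u v w
open scoped BigOperators

namespace PLieLib

open Groth.Agent

attribute [local instance 100] LieRing.ofAssociativeRing

variable {R : Type u} [CommRing R] {p : ℕ} [hp : Fact p.Prime] [CharP R p]
  {L : Type v} [LieRing L] [LieAlgebra R L]

section Basic

omit hp in
lemma pmap_smul (φ : PLie.PMap R p L) (c : R) (x : L) : φ (c • x) = c ^ p • φ x := φ.map_smul c x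

lemma pmap_zero (φ : PLie.PMap R p L) : φ 0 = 0 := by
  simpa [zero_pow hp.out.ne_zero] using φ.map_smul 0 0

omit hp in
lemma pmap_add (φ : PLie.PMap R p L) (x y : L) :
    φ (x + y) = φ x + φ y - PLie.jacobson R p x y := φ.map_add x y

omit hp in
lemma pmap_ad (φ : PLie.PMap R p L) (x z : L) :
    ⁅φ x, z⁆ = (LieAlgebra.ad R L x ^ p) z := by
  rw [← φ.ad_map, LieAlgebra.ad_apply]

omit hp in
lemma pmap_ext {φ ψ : PLie.PMap R p L} (h : ∀ x, φ x = ψ x) : φ = ψ := by
  obtain ⟨f, _, _, _⟩ := φ; obtain ⟨g, _, _, _⟩ := ψ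
  obtain rfl : f = g := funext h
  rfl

lemma pmap_eq_of_span {φ ψ : PLie.PMap R p L} {s : Set L} (hs : Submodule.span R s = ⊤)
    (h : ∀ x ∈ s, φ x = ψ x) : φ = ψ := by
  refine pmap_ext fun x => ?_
  have hx : x ∈ Submodule.span R s := hs ▸ Submodule.mem_top
  induction hx using Submodule.span_induction with
  | mem x hx => exact h x hx
  | zero => rw [pmap_zero, pmap_zero]
  | add a c _ _ ha hc => rw [pmap_add, pmap_add, ha, hc]
  | smul a c _ hc => rw [pmap_smul, pmap_smul, hc]

/-- The `p`-th power on a Lie subalgebra of an associative algebra. -/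
lemma exists_pmap_of_embedding {A : Type*} [Ring A] [Algebra R A] (ρ : L →ₗ⁅R⁆ A)
    (hρ : Function.Injective ρ) {s : Set L} (hs : Submodule.span R s = ⊤)
    (h : ∀ x ∈ s, ∃ y, ρ y = ρ x ^ p) :
    ∃ φ : PLie.PMap R p L, ∀ x, ρ (φ x) = ρ x ^ p := by
  have hall : ∀ x, ∃ y, ρ y = ρ x ^ p := fun x => by
    have hx : x ∈ Submodule.span R s := hs ▸ Submodule.mem_top
    induction hx using Submodule.span_induction with
    | mem x hx => exact h x hx
    | zero => exact ⟨0, by simp [zero_pow hp.out.ne_zero]⟩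
    | add a c _ _ ha hc =>
      obtain ⟨ya, hya⟩ := ha; obtain ⟨yc, hyc⟩ := hc
      refine ⟨ya + yc - PLie.jacobson R p a c, ?_⟩
      rw [map_sub, map_add, map_add, add_pow_p (R := R) (p := p), map_jacobson, hya, hyc]
    | smul a c _ hc =>
      obtain ⟨yc, hyc⟩ := hc
      exact ⟨a ^ p • yc, by rw [map_smul, map_smul, smul_pow, hyc]⟩
  choose f hf using hall
  refine ⟨⟨f, fun c x => hρ ?_, fun x => LinearMap.ext fun z => hρ ?_, fun a c => hρ ?_⟩, hf⟩
  · rw [hf, map_smul, map_smul, smul_pow, hf]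
  · rw [LieAlgebra.ad_apply, LieHom.map_lie, hf, DHA.LieAdPow.map_ad_pow, ad_pow_p,
      LieAlgebra.ad_apply]
  · rw [map_sub, map_add, hf, hf, hf, map_add, add_pow_p (R := R) (p := p), map_jacobson]

end Basic

section Free

variable {ι : Type w} (b : Module.Basis ι R L) (y : ι → L)

/-- A faithful representation realising prescribed `p`-th powers of basis elements. -/
lemma exists_rep (hy : AdCond p b y) :
    ∃ (W : Type max u w) (_ : AddCommGroup W) (_ : Module R W) (ρ : L →ₗ⁅R⁆ Module.End R W),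
      Function.Injective ρ ∧ (∀ i, ρ (b i) ^ p = ρ (y i)) ∧ (Finite ι → Module.Finite R W) := by
  let : LinearOrder ι := IsWellOrder.linearOrder WellOrderingRel
  exact ⟨W p b y, inferInstance, inferInstance, rep hy, rep_injective hy, rep_pow hy,
    fun _ => finite_W hy⟩

/-- Existence of the `p`-map with prescribed values on a basis. -/
theorem exists_pmap_basis (hy : AdCond p b y) : ∃ φ : PLie.PMap R p L, ∀ i, φ (b i) = y i := by
  obtain ⟨W, _, _, ρ, hρ, hpow, -⟩ := exists_rep b y hy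
  obtain ⟨φ, hφ⟩ := exists_pmap_of_embedding ρ hρ (s := Set.range b) b.span_eq
    (by rintro _ ⟨i, rfl⟩; exact ⟨y i, (hpow i).symm⟩)
  exact ⟨φ, fun i => hρ (by rw [hφ, hpow])⟩

/-- Restrictability criterion. -/
theorem nonempty_pmap_iff :
    Nonempty (PLie.PMap R p L) ↔
      ∀ i, ∃ w, LieAlgebra.ad R L (b i) ^ p = LieAlgebra.ad R L w := by
  refine ⟨fun ⟨φ⟩ i => ⟨φ (b i), (φ.ad_map (b i)).symm⟩, fun h => ?_⟩
  choose y hy using h
  exact ⟨(exists_pmap_basis b y hy).choose⟩

include b in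
/-- Every finite free restricted Lie algebra has a faithful finite restricted representation. -/
theorem exists_finite_faithful [Finite ι] (φ : PLie.PMap R p L) :
    ∃ (W : Type max u w) (_ : AddCommGroup W) (_ : Module R W) (ρ : L →ₗ⁅R⁆ Module.End R W),
      Module.Finite R W ∧ Function.Injective ρ ∧ ∀ x, ρ (φ x) = ρ x ^ p := by
  have hy : AdCond p b fun i => φ (b i) := fun i => (φ.ad_map (b i)).symm
  obtain ⟨W, i1, i2, ρ, hρ, hpow, hfin⟩ := exists_rep b _ hy
  obtain ⟨ψ, hψ⟩ := exists_pmap_of_embedding ρ hρ (s := Set.range b) b.span_eq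
    (by rintro _ ⟨i, rfl⟩; exact ⟨φ (b i), (hpow i).symm⟩)
  obtain rfl : φ = ψ := pmap_eq_of_span b.span_eq (by
    rintro _ ⟨i, rfl⟩; exact hρ (by rw [hψ, hpow]))
  exact ⟨W, i1, i2, ρ, hfin inferInstance, hρ, hψ⟩

end Free

end PLieLib
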