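import Groth.Agent.PLieLib.L3Def

/-!
# Restrictability of first-order deformations of the Heisenberg algebra
-/

universe u v
open scoped DualNumber
open DualNumber TrivSqZeroExt

namespace PLieLib.H3Def

open PLieLib.L3Def

variable {K : Type u} [Field K] {p : ℕ} [Fact p.Prime] [CharP K p] [CharP (DualNumber K) p]
  {a b c d e f g h i : K}
  {L : Type v} [LieRing L] [LieAlgebra (DualNumber K) L]
  {bs : Module.Basis (Fin 3) (DualNumber K) L}
  (hxy : ⁅bs 0, bs 1⁆ = comb bs (e' a) (e' b) (e' c))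
  (hxz : ⁅bs 0, bs 2⁆ = comb bs (e' d) (e' e) (e' f))
  (hyz : ⁅bs 1, bs 2⁆ = comb bs (1 + e' g) (e' h) (e' i))

include hxy hxz hyz in
theorem criterion : Nonempty (PLie.PMap (DualNumber K) p L) ↔ (p = 2 → b = 0 ∧ c = 0 ∧ e = 0) := by
  have hpr : p.Prime := Fact.out
  set Nx := LieAlgebra.ad (DualNumber K) L (bs 0) with hNx
  set Ny := LieAlgebra.ad (DualNumber K) L (bs 1) with hNy
  set Nz := LieAlgebra.ad (DualNumber K) L (bs 2) with hNz
  have hxx : Nx (bs 0) = comb bs 0 0 0 := by rw [hNx, LieAlgebra.ad_apply, lie_self, comb_zero]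
  have hx1 : Nx (bs 1) = _ := (LieAlgebra.ad_apply ..).trans hxy
  have hx2 : Nx (bs 2) = _ := (LieAlgebra.ad_apply ..).trans hxz
  have hyx : Ny (bs 0) = comb bs (-e' a) (-e' b) (-e' c) := by
    rw [hNy, LieAlgebra.ad_apply, ← lie_skew, hxy]; simp only [comb]; module
  have hy1 : Ny (bs 1) = comb bs 0 0 0 := by rw [hNy, LieAlgebra.ad_apply, lie_self, comb_zero]
  have hy2 : Ny (bs 2) = _ := (LieAlgebra.ad_apply ..).trans hyz
  have hzx : Nz (bs 0) = comb bs (-e' d) (-e' e) (-e' f) := by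
    rw [hNz, LieAlgebra.ad_apply, ← lie_skew, hxz]; simp only [comb]; module
  have hzy : Nz (bs 1) = comb bs (-(1 + e' g)) (-e' h) (-e' i) := by
    rw [hNz, LieAlgebra.ad_apply, ← lie_skew, hyz]; simp only [comb]; module
  have hz2 : Nz (bs 2) = comb bs 0 0 0 := by rw [hNz, LieAlgebra.ad_apply, lie_self, comb_zero]
  have x2 : Nx ^ 2 = 0 := by
    refine end_ext bs ?_ ?_ ?_ <;> rw [pow_two, Module.End.mul_apply, LinearMap.zero_apply]
    · rw [hxx, comb_zero, map_zero]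
    · rw [hx1, map_comb' Nx hxx hx1 hx2]
      refine Eq.trans (comb_eq.2 ⟨?_, ?_, ?_⟩) comb_zero <;> apply ext2 <;> simp
    · rw [hx2, map_comb' Nx hxx hx1 hx2]
      refine Eq.trans (comb_eq.2 ⟨?_, ?_, ?_⟩) comb_zero <;> apply ext2 <;> simp
  have y2x : (Ny ^ 2) (bs 0) = comb bs (-e' c) 0 0 := by
    rw [pow_two, Module.End.mul_apply, hyx, map_comb' Ny hyx hy1 hy2, comb_eq]
    refine ⟨?_, ?_, ?_⟩ <;> apply ext2 <;> simp
  have y2y : (Ny ^ 2) (bs 1) = comb bs 0 0 0 := by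
    rw [pow_two, Module.End.mul_apply, hy1, comb_zero, map_zero]
  have y2z : (Ny ^ 2) (bs 2) = comb bs (e' (i - a)) (-e' b) (-e' c) := by
    rw [pow_two, Module.End.mul_apply, hy2, map_comb' Ny hyx hy1 hy2, comb_eq]
    refine ⟨?_, ?_, ?_⟩ <;> apply ext2 <;> simp [sub_eq_add_neg, add_comm]
  have z2x : (Nz ^ 2) (bs 0) = comb bs (e' e) 0 0 := by
    rw [pow_two, Module.End.mul_apply, hzx, map_comb' Nz hzx hzy hz2, comb_eq]
    refine ⟨?_, ?_, ?_⟩ <;> apply ext2 <;> simp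
  have z2y : (Nz ^ 2) (bs 1) = comb bs (e' (d + h)) (e' e) (e' f) := by
    rw [pow_two, Module.End.mul_apply, hzy, map_comb' Nz hzx hzy hz2, comb_eq]
    refine ⟨?_, ?_, ?_⟩ <;> apply ext2 <;> simp
  have z2z : (Nz ^ 2) (bs 2) = comb bs 0 0 0 := by
    rw [pow_two, Module.End.mul_apply, hz2, comb_zero, map_zero]
  have y3 : (Ny ^ 3) (bs 0) = 0 ∧ (Ny ^ 3) (bs 1) = 0 ∧ (Ny ^ 3) (bs 2) = comb bs (-e' c) 0 0 := by
    refine ⟨?_, ?_, ?_⟩ <;> rw [pow_succ', Module.End.mul_apply]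
    · rw [y2x, map_comb' Ny hyx hy1 hy2]
      refine Eq.trans (comb_eq.2 ⟨?_, ?_, ?_⟩) comb_zero <;> apply ext2 <;> simp
    · rw [y2y, comb_zero, map_zero]
    · rw [y2z, map_comb' Ny hyx hy1 hy2, comb_eq]
      refine ⟨?_, ?_, ?_⟩ <;> apply ext2 <;> simp
  have z3 : (Nz ^ 3) (bs 0) = 0 ∧ (Nz ^ 3) (bs 1) = comb bs (-e' e) 0 0 ∧ (Nz ^ 3) (bs 2) = 0 := by
    refine ⟨?_, ?_, ?_⟩ <;> rw [pow_succ', Module.End.mul_apply]
    · rw [z2x, map_comb' Nz hzx hzy hz2]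
      refine Eq.trans (comb_eq.2 ⟨?_, ?_, ?_⟩) comb_zero <;> apply ext2 <;> simp
    · rw [z2y, map_comb' Nz hzx hzy hz2, comb_eq]
      refine ⟨?_, ?_, ?_⟩ <;> apply ext2 <;> simp
    · rw [z2z, comb_zero, map_zero]
  have hp5 : p ≠ 2 → p ≠ 3 → 5 ≤ p := fun h2 h3 => by
    have h4 : p ≠ 4 := fun h4 => absurd (h4 ▸ hpr) (by decide)
    have := hpr.two_le; omega
  have y4 : p ≠ 2 → p ≠ 3 → Ny ^ p = 0 := fun h2 h3 => by
    obtain ⟨k, rfl⟩ : ∃ k, p = k + 4 := ⟨p - 4, by have := hp5 h2 h3; omega⟩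
    refine end_ext bs ?_ ?_ ?_ <;>
      rw [pow_add, Module.End.mul_apply, pow_succ', Module.End.mul_apply, LinearMap.zero_apply]
    · rw [y3.1, map_zero, map_zero]
    · rw [y3.2.1, map_zero, map_zero]
    · rw [y3.2.2, map_comb' Ny hyx hy1 hy2,
        show comb bs _ _ _ = (0 : L) from (comb_eq.2 ⟨by apply ext2 <;> simp, by apply ext2 <;> simp,
          by apply ext2 <;> simp⟩).trans comb_zero, map_zero]
  have z4 : p ≠ 2 → p ≠ 3 → Nz ^ p = 0 := fun h2 h3 => by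
    obtain ⟨k, rfl⟩ : ∃ k, p = k + 4 := ⟨p - 4, by have := hp5 h2 h3; omega⟩
    refine end_ext bs ?_ ?_ ?_ <;>
      rw [pow_add, Module.End.mul_apply, pow_succ', Module.End.mul_apply, LinearMap.zero_apply]
    · rw [z3.1, map_zero, map_zero]
    · rw [z3.2.1, map_comb' Nz hzx hzy hz2,
        show comb bs _ _ _ = (0 : L) from (comb_eq.2 ⟨by apply ext2 <;> simp, by apply ext2 <;> simp,
          by apply ext2 <;> simp⟩).trans comb_zero, map_zero]
    · rw [z3.2.2, map_zero, map_zero]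
  rw [nonempty_pmap_iff bs]
  constructor
  · rintro hw rfl
    obtain ⟨w, hwy⟩ := hw 1
    obtain ⟨A, B, C, rfl⟩ := exists_comb (bs := bs) w
    obtain ⟨l0, l1, l2⟩ := lie_comb' hxy hxz hyz A B C
    obtain ⟨w', hwz⟩ := hw 2
    obtain ⟨A', B', C', rfl⟩ := exists_comb (bs := bs) w'
    obtain ⟨m0, m1, m2⟩ := lie_comb' hxy hxz hyz A' B' C'
    rw [← hNy] at hwy
    rw [← hNz] at hwz
    rw [hwy, LieAlgebra.ad_apply, l0, comb_eq] at y2x
    rw [hwy, LieAlgebra.ad_apply, l1, comb_eq] at y2y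
    rw [hwy, LieAlgebra.ad_apply, l2, comb_eq] at y2z
    rw [hwz, LieAlgebra.ad_apply, m0, comb_eq] at z2x
    rw [hwz, LieAlgebra.ad_apply, m1, comb_eq] at z2y
    rw [hwz, LieAlgebra.ad_apply, m2, comb_eq] at z2z
    have hC : C.fst = 0 := by simpa using congrArg TrivSqZeroExt.fst y2y.1
    have hB : B.fst = 0 := by simpa using congrArg TrivSqZeroExt.fst y2z.1
    have hC' : C'.fst = 0 := by simpa using congrArg TrivSqZeroExt.fst z2y.1
    have hB' : B'.fst = 0 := by simpa using congrArg TrivSqZeroExt.fst z2z.1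
    have hc := congrArg TrivSqZeroExt.snd y2x.1
    have hab := congrArg TrivSqZeroExt.snd y2y.2.1
    have hae := congrArg TrivSqZeroExt.snd y2z.2.1
    have he := congrArg TrivSqZeroExt.snd z2x.1
    simp [hB, hC, hB', hC'] at hc hab hae he
    refine ⟨?_, hc, he.symm⟩
    rcases hab with h0 | h0
    · exact h0
    · rw [h0, mul_zero] at hae; simpa using hae.symm
  · intro hcond i'
    fin_cases i'
    · refine ⟨0, ?_⟩
      change Nx ^ p = _
      obtain ⟨k, hk⟩ := Nat.exists_eq_add_of_le' hpr.two_le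
      rw [map_zero, hk, pow_add, x2, mul_zero]
    · change ∃ w, Ny ^ p = _
      rcases eq_or_ne p 2 with rfl | h2
      · obtain ⟨rfl, rfl, rfl⟩ := hcond rfl
        refine ⟨comb bs 0 (e' (i - a)) 0, ?_⟩
        obtain ⟨l0, l1, l2⟩ := lie_comb' hxy hxz hyz 0 (e' (i - a)) 0
        refine end_ext bs ?_ ?_ ?_
        · rw [y2x, LieAlgebra.ad_apply, l0, comb_eq]; refine ⟨?_, ?_, ?_⟩ <;> apply ext2 <;> simp
        · rw [y2y, LieAlgebra.ad_apply, l1, comb_eq]; refine ⟨?_, ?_, ?_⟩ <;> apply ext2 <;> simp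
        · rw [y2z, LieAlgebra.ad_apply, l2, comb_eq]; refine ⟨?_, ?_, ?_⟩ <;> apply ext2 <;> simp
      rcases eq_or_ne p 3 with rfl | h3
      · refine ⟨comb bs 0 (-e' c) 0, ?_⟩
        obtain ⟨l0, l1, l2⟩ := lie_comb' hxy hxz hyz 0 (-e' c) 0
        refine end_ext bs ?_ ?_ ?_
        · rw [y3.1, LieAlgebra.ad_apply, l0, ← comb_zero (bs := bs), comb_eq]
          refine ⟨?_, ?_, ?_⟩ <;> apply ext2 <;> simp
        · rw [y3.2.1, LieAlgebra.ad_apply, l1, ← comb_zero (bs := bs), comb_eq]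
          refine ⟨?_, ?_, ?_⟩ <;> apply ext2 <;> simp
        · rw [y3.2.2, LieAlgebra.ad_apply, l2, comb_eq]; refine ⟨?_, ?_, ?_⟩ <;> apply ext2 <;> simp
      exact ⟨0, by rw [y4 h2 h3, map_zero]⟩
    · change ∃ w, Nz ^ p = _
      rcases eq_or_ne p 2 with rfl | h2
      · obtain ⟨rfl, rfl, rfl⟩ := hcond rfl
        have hf : f = 0 := by
          have J := leibniz_lie (bs 0) (bs 1) (bs 2)
          rw [hxy, hyz, hxz, (lie_comb' hxy hxz hyz _ _ _).2.2, ← LieAlgebra.ad_apply (R := DualNumber K) (x := bs 0),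
            ← LieAlgebra.ad_apply (R := DualNumber K) (x := bs 1), ← hNx, ← hNy,
            map_comb' Nx hxx hx1 hx2, map_comb' Ny hyx hy1 hy2] at J
          have J' := congrArg (fun v => (bs.repr v 0).snd) J
          simp [comb, Finsupp.single_apply] at J'
          simpa using J'.symm
        refine ⟨comb bs 0 0 (-e' (d + h)), ?_⟩
        obtain ⟨l0, l1, l2⟩ := lie_comb' hxy hxz hyz 0 0 (-e' (d + h))
        refine end_ext bs ?_ ?_ ?_
        · rw [z2x, LieAlgebra.ad_apply, l0, comb_eq]; refine ⟨?_, ?_, ?_⟩ <;> apply ext2 <;> simp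
        · rw [z2y, LieAlgebra.ad_apply, l1, comb_eq, hf]; refine ⟨?_, ?_, ?_⟩ <;> apply ext2 <;> simp
        · rw [z2z, LieAlgebra.ad_apply, l2, comb_eq]; refine ⟨?_, ?_, ?_⟩ <;> apply ext2 <;> simp
      rcases eq_or_ne p 3 with rfl | h3
      · refine ⟨comb bs 0 0 (e' e), ?_⟩
        obtain ⟨l0, l1, l2⟩ := lie_comb' hxy hxz hyz 0 0 (e' e)
        refine end_ext bs ?_ ?_ ?_
        · rw [z3.1, LieAlgebra.ad_apply, l0, ← comb_zero (bs := bs), comb_eq]
          refine ⟨?_, ?_, ?_⟩ <;> apply ext2 <;> simp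
        · rw [z3.2.1, LieAlgebra.ad_apply, l1, comb_eq]; refine ⟨?_, ?_, ?_⟩ <;> apply ext2 <;> simp
        · rw [z3.2.2, LieAlgebra.ad_apply, l2, ← comb_zero (bs := bs), comb_eq]
          refine ⟨?_, ?_, ?_⟩ <;> apply ext2 <;> simp
      exact ⟨0, by rw [z4 h2 h3, map_zero]⟩

end PLieLib.H3Def
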