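import Groth.Agent.PLieLib.RestrictedEnv
import Groth.Prelude.Def_CartDual
import Mathlib.LinearAlgebra.Dual.Lemmas
import Mathlib.RingTheory.Derivation.Lie

/-!
# Height one groups from restricted Lie algebras

The dual of the restricted enveloping algebra: its left invariant derivations are the elements of the
Lie algebra, and the augmentation ideal is killed by the Frobenius.
-/

universe u

noncomputable section

open scoped TensorProduct
open Coalgebra WithConv

namespace Groth.Agent.REnv

open CartDual

section Dual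

variable {k : Type u} [Field k] {p : ℕ} [hp : Fact p.Prime] [CharP k p]
  {L : Type u} [LieRing L] [LieAlgebra k L] (φ : PLie.PMap k p L) [Module.Finite k (Env φ)]

local notation "𝒜" => D k (Env φ)

theorem mul_apply' (f g : 𝒜) (u : Env φ) :
    (f * g) u = LinearMap.mul' k k (TensorProduct.map f.ofConv g.ofConv (Δ φ u)) := rfl

/-- right translation -/
def transl (ξ : Env φ) : 𝒜 →ₗ[k] 𝒜 :=
  (toDual k (Env φ)).symm.toLinearMap ∘ₗ (LinearMap.mulRight k ξ).dualMap ∘ₗ (toDual k (Env φ)).toLinearMap

theorem transl_apply (ξ : Env φ) (f : 𝒜) (u : Env φ) : transl φ ξ f u = f (u * ξ) := rfl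

theorem transl_leibniz (x : L) (f g : 𝒜) :
    transl φ (inj φ x) (f * g) = f * transl φ (inj φ x) g + g * transl φ (inj φ x) f := by
  rw [mul_comm g]
  apply WithConv.ext
  refine LinearMap.ext fun u => ?_
  change (f * g) (u * inj φ x) = (f * transl φ (inj φ x) g) u + (transl φ (inj φ x) f * g) u
  rw [mul_apply', mul_apply', mul_apply', map_mul, Δ_inj]
  generalize Δ φ u = w
  induction w using TensorProduct.induction_on with
  | zero => simp
  | add a c ha hc =>
    simp only [add_mul, map_add, ha, hc]
    abel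
  | tmul a c =>
    simp only [mul_add, Algebra.TensorProduct.tmul_mul_tmul, mul_one, map_add, TensorProduct.map_tmul,
      LinearMap.mul'_apply]
    change f (a * inj φ x) * g c + f a * g (c * inj φ x) = f a * g (c * inj φ x) + f (a * inj φ x) * g c
    ring

/-- the derivation of an element of the Lie algebra -/
def derOf (x : L) : Derivation k 𝒜 𝒜 :=
  Derivation.mk' (transl φ (inj φ x)) fun f g => by simp [transl_leibniz, smul_eq_mul]

/-- the map to the derivations -/
def derHom : L →ₗ[k] Derivation k 𝒜 𝒜 where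
  toFun := derOf φ
  map_add' x y := Derivation.ext fun f => WithConv.ext (LinearMap.ext fun u => by
    change f.ofConv (u * inj φ (x + y)) = f.ofConv (u * inj φ x) + f.ofConv (u * inj φ y)
    rw [map_add, mul_add, map_add])
  map_smul' c x := Derivation.ext fun f => WithConv.ext (LinearMap.ext fun u => by
    change f.ofConv (u * inj φ (c • x)) = c • f.ofConv (u * inj φ x)
    rw [map_smul, mul_smul_comm, map_smul])

theorem derHom_apply (x : L) (f : 𝒜) : derHom φ x f = transl φ (inj φ x) f := rfl

theorem derHom_lie (x y : L) : derHom φ ⁅x, y⁆ = ⁅derHom φ x, derHom φ y⁆ := by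
  refine Derivation.ext fun f => WithConv.ext (LinearMap.ext fun u => ?_)
  rw [Derivation.commutator_apply, WithConv.ofConv_sub, LinearMap.sub_apply]
  change f.ofConv (u * inj φ ⁅x, y⁆) = f.ofConv (u * inj φ x * inj φ y) - f.ofConv (u * inj φ y * inj φ x)
  rw [inj_lie, mul_sub, map_sub, mul_assoc, mul_assoc]

theorem derHom_pow (x : L) : (derHom φ (φ x)).toLinearMap = (derHom φ x).toLinearMap ^ p := by
  have h : ∀ (n : ℕ) (f : 𝒜) (u : Env φ),
      (((derHom φ x).toLinearMap ^ n) f).ofConv u = f.ofConv (u * inj φ x ^ n) := by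
    intro n
    induction n with
    | zero => intro f u; simp
    | succ n ih =>
      intro f u
      rw [pow_succ', Module.End.mul_apply]
      change (((derHom φ x).toLinearMap ^ n) f).ofConv (u * inj φ x) = _
      rw [ih, mul_assoc, ← pow_succ']
  refine LinearMap.ext fun f => WithConv.ext (LinearMap.ext fun u => ?_)
  rw [h, inj_pow]
  rfl

theorem derHom_injective (hinj : Function.Injective (inj φ)) : Function.Injective (derHom φ) := by
  intro x y h
  refine hinj ?_
  rw [← sub_eq_zero]
  refine (Module.forall_dual_apply_eq_zero_iff k _).mp fun f => ?_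
  have h1 := congrArg (fun D : Derivation k 𝒜 𝒜 => D (toConv f) 1) h
  change f (1 * inj φ x) = f (1 * inj φ y) at h1
  rw [one_mul, one_mul] at h1
  rw [map_sub, h1, sub_self]

theorem ev₂_lTensor (D' : 𝒜 →ₗ[k] 𝒜) (ξ : Env φ) (c : Env φ) (h : ∀ f : 𝒜, D' f c = f ξ) (y : 𝒜 ⊗[k] 𝒜)
    (a : Env φ) : ev₂ k (Env φ) (D'.lTensor 𝒜 y) (a ⊗ₜ c) = ev₂ k (Env φ) y (a ⊗ₜ ξ) := by
  induction y using TensorProduct.induction_on with
  | zero => simp
  | add y z hy hz => simp only [map_add, LinearMap.add_apply, hy, hz]
  | tmul f g => rw [LinearMap.lTensor_tmul, ev₂_tmul, ev₂_tmul, h]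

theorem range_derHom (hprim : ∀ ξ : Env φ, Δ φ ξ = ξ ⊗ₜ[k] 1 + 1 ⊗ₜ[k] ξ → ∃ x, inj φ x = ξ) :
    Set.range (derHom φ) = {D' : Derivation k 𝒜 𝒜 | CoalgebraStruct.comul (R := k) (A := 𝒜) ∘ₗ D'.toLinearMap =
      LinearMap.lTensor 𝒜 D'.toLinearMap ∘ₗ CoalgebraStruct.comul (R := k) (A := 𝒜)} := by
  refine Set.ext fun D' => ⟨?_, fun hD => ?_⟩
  · rintro ⟨x, rfl⟩
    refine LinearMap.ext fun f => (ev₂ k (Env φ)).injective (TensorProduct.ext' fun a c => ?_)
    rw [LinearMap.comp_apply, LinearMap.comp_apply]
    rw [ev₂_coalgebra_comul_tmul, ev₂_lTensor φ _ (c * inj φ x) c (fun g => rfl), ev₂_coalgebra_comul_tmul]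
    change f.ofConv (a * c * inj φ x) = f.ofConv (a * (c * inj φ x))
    rw [mul_assoc]
  · let F : Module.Dual k (Module.Dual k (Env φ)) :=
      (CartDual.counit k (Env φ)) ∘ₗ D'.toLinearMap ∘ₗ (toDual k (Env φ)).symm.toLinearMap
    let ξ := (Module.evalEquiv k (Env φ)).symm F
    have hξ : ∀ f : 𝒜, D' f 1 = f ξ := fun f => by
      change _ = f.ofConv ((Module.evalEquiv k (Env φ)).symm F)
      rw [Module.apply_evalEquiv_symm_apply]
      rfl
    have hright : ∀ (f : 𝒜) (u : Env φ), D' f u = f (u * ξ) := fun f u => by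
      have h1 := congrArg (fun g : 𝒜 →ₗ[k] 𝒜 ⊗[k] 𝒜 => ev₂ k (Env φ) (g f) (u ⊗ₜ 1)) hD
      simp only [LinearMap.comp_apply] at h1
      rw [ev₂_coalgebra_comul_tmul, mul_one, ev₂_lTensor φ _ ξ 1 hξ, ev₂_coalgebra_comul_tmul] at h1
      exact h1
    have hp' : Δ φ ξ = ξ ⊗ₜ[k] 1 + 1 ⊗ₜ[k] ξ := by
      rw [← sub_eq_zero]
      refine (Module.forall_dual_apply_eq_zero_iff k _).mp fun G => ?_
      obtain ⟨y, rfl⟩ := (ev₂ k (Env φ)).surjective G
      rw [map_sub, sub_eq_zero]
      induction y using TensorProduct.induction_on with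
      | zero => simp
      | add y z hy hz => simp only [map_add, LinearMap.add_apply, hy, hz]; abel
      | tmul f g =>
        have h1 : (f * g) ξ = f 1 * g ξ + f ξ * g 1 := by
          rw [← hξ, D'.leibniz, smul_eq_mul, smul_eq_mul, WithConv.ofConv_add, LinearMap.add_apply]
          rw [mul_apply', mul_apply', map_one, Algebra.TensorProduct.one_def, TensorProduct.map_tmul,
            TensorProduct.map_tmul, LinearMap.mul'_apply, LinearMap.mul'_apply]
          change f 1 * D' g 1 + g 1 * D' f 1 = _
          rw [hξ, hξ, mul_comm (g 1)]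
        rw [mul_apply'] at h1
        have h2 : ∀ w : Env φ ⊗[k] Env φ, ev₂ k (Env φ) (f ⊗ₜ g) w =
            LinearMap.mul' k k (TensorProduct.map f.ofConv g.ofConv w) := fun w => by
          rw [ev₂_tmul_eq']; rfl
        rw [h2, h1, map_add, ev₂_tmul, ev₂_tmul]
        change f 1 * g ξ + f ξ * g 1 = f ξ * g 1 + f 1 * g ξ
        ring
    obtain ⟨x, hx⟩ := hprim ξ hp'
    refine ⟨x, Derivation.ext fun f => WithConv.ext (LinearMap.ext fun u => ?_)⟩
    change f.ofConv (u * inj φ x) = _
    rw [hx]
    exact (hright f u).symm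

theorem pow_eq_zero (f : 𝒜) (hf : Bialgebra.counitAlgHom k 𝒜 f = 0) : f ^ p = 0 := by
  have hp0 : (p : 𝒜) = 0 := by
    rw [← map_natCast (algebraMap k 𝒜) p, CharP.cast_eq_zero, map_zero]
  have hD : ∀ x, derHom φ x (f ^ p) = 0 := fun x => by
    rw [Derivation.leibniz_pow, nsmul_eq_mul, hp0, zero_mul]
  have hg : ∀ u v : Env φ, (f ^ p) (v * u) = ε φ u * (f ^ p) v := by
    intro u
    induction u using induction_env φ with
    | halg r =>
      intro v
      rw [AlgHom.commutes, ← Algebra.commutes, ← Algebra.smul_def, map_smul]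
      rfl
    | hι x =>
      intro v
      rw [ε_inj, zero_mul]
      exact congrArg (fun g : 𝒜 => g v) (hD x)
    | hmul a c ha hc => intro v; rw [← mul_assoc, hc, ha, map_mul]; ring
    | hadd a c ha hc => intro v; rw [mul_add, map_add, ha, hc, map_add]; ring
  apply WithConv.ext
  refine LinearMap.ext fun u => ?_
  have h1 := hg u 1
  rw [one_mul] at h1
  have h2 : (f ^ p) 1 = 0 := by
    change Bialgebra.counitAlgHom k 𝒜 (f ^ p) = 0
    rw [map_pow, hf, zero_pow hp.out.ne_zero]
  rw [h2, mul_zero] at h1
  exact h1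

end Dual

/-- every restricted Lie algebra is that of a height one group -/
theorem exists_height_one (k : Type u) [Field k] (p : ℕ) [Fact p.Prime] [CharP k p]
    (L : Type u) [LieRing L] [LieAlgebra k L] [Module.Finite k L] (φ : PLie.PMap k p L) :
    ∃ (A : Type u) (_ : CommRing A) (_ : HopfAlgebra k A), Module.Finite k A ∧
      (∀ f : A, Bialgebra.counitAlgHom k A f = 0 → f ^ p = 0) ∧
      ∃ e : L →ₗ[k] Derivation k A A, Function.Injective e ∧
        Set.range e = {D : Derivation k A A | CoalgebraStruct.comul (R := k) (A := A) ∘ₗ D.toLinearMap =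
          LinearMap.lTensor A D.toLinearMap ∘ₗ CoalgebraStruct.comul (R := k) (A := A)} ∧
        (∀ x y : L, e ⁅x, y⁆ = ⁅e x, e y⁆) ∧
        (∀ x : L, (e (φ x)).toLinearMap = (e x).toLinearMap ^ p) := by
  let b := Module.Free.chooseBasis k L
  letI : LinearOrder (Module.Free.ChooseBasisIndex k L) := IsWellOrder.linearOrder WellOrderingRel
  haveI := finite_red (p := p) (ι := Module.Free.ChooseBasisIndex k L)
  haveI : Module.Finite k (Env φ) := Module.Finite.of_basis (basisRed φ b)
  have hinj : Function.Injective (inj φ) := by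
    have h1 : ∀ j, ∀ i, ({j} : Multiset (Module.Free.ChooseBasisIndex k L)).count i < p := fun j i => by
      have h2 := Multiset.count_le_card i ({j} : Multiset (Module.Free.ChooseBasisIndex k L))
      rw [Multiset.card_singleton] at h2
      have := (Fact.out : p.Prime).two_le; omega
    have h3 : LinearIndependent k (fun j => inj φ (b j)) := by
      have h4 := (linearIndependent_monE φ b).comp (fun (j : Module.Free.ChooseBasisIndex k L) => ⟨{j}, fun i => by convert h1 j i⟩)
        (fun i j h => Multiset.singleton_inj.mp (congrArg Subtype.val h))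
      simpa only [Function.comp_def, monE_singleton] using h4
    exact LinearMap.ker_eq_bot.mp (LinearMap.ker_eq_bot'.mpr fun x hx => by
      rw [← b.linearCombination_repr x, Finsupp.linearCombination_apply, map_finsuppSum] at hx
      simp only [map_smul] at hx
      have h5 := linearIndependent_iff.mp h3 (b.repr x) (by rw [Finsupp.linearCombination_apply]; exact hx)
      exact b.repr.injective (h5.trans (map_zero _).symm))
  exact ⟨CartDual.D k (Env φ), inferInstance, inferInstance, inferInstance, pow_eq_zero φ, derHom φ,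
    derHom_injective φ hinj, range_derHom φ (fun ξ h => exists_inj_of_primitive φ b h), derHom_lie φ, derHom_pow φ⟩

end Groth.Agent.REnv
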