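import Groth.Agent.PLieLib.Exists
import Mathlib.Algebra.Lie.Engel
import Mathlib.Algebra.Lie.Normalizer
import Mathlib.Algebra.Lie.Solvable
import Mathlib.RingTheory.Noetherian.Basic

/-!
# Radical, nilradical and `p`-radical of restricted Lie algebras
-/

universe u v
open scoped BigOperators

namespace PLieLib

open Groth.Agent

variable {k : Type u} [Field k] {p : ℕ} [hp : Fact p.Prime] [CharP k p]
  {L : Type v} [LieRing L] [LieAlgebra k L] (φ : PLie.PMap k p L)

section

omit hp in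
lemma pow_ad_iterate (x : L) (n : ℕ) :
    LieAlgebra.ad k L (φ.toFun^[n] x) = LieAlgebra.ad k L x ^ p ^ n := by
  induction n with
  | zero => simp
  | succ n ih => rw [Function.iterate_succ_apply', φ.ad_map, ih, ← pow_mul, pow_succ]

omit hp [CharP k p] in
lemma ad_pow_mem (I : LieIdeal k L) {x : L} (hx : x ∈ I) : ∀ (n : ℕ), 0 < n → ∀ z,
    (LieAlgebra.ad k L x ^ n) z ∈ I
  | 0, h, _ => absurd h (lt_irrefl 0)
  | n + 1, _, z => by
    rw [pow_succ', Module.End.mul_apply, LieAlgebra.ad_apply]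
    exact lie_mem_left k L I x _ hx

include hp in
lemma pmap_mem_normalizer (I : LieIdeal k L) {x : L} (hx : x ∈ I) :
    φ x ∈ LieSubmodule.normalizer I := by
  rw [LieSubmodule.mem_normalizer]
  intro z
  rw [← lie_skew]
  refine neg_mem ?_
  rw [pmap_ad]
  exact ad_pow_mem I hx p hp.out.pos z

end

variable [Module.Finite k L]

include hp in
theorem radical_stable (x : L) (hx : x ∈ LieAlgebra.radical k L) :
    φ x ∈ LieAlgebra.radical k L := by
  set I : LieIdeal k L := LieSubmodule.normalizer (LieAlgebra.radical k L) with hI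
  have hsolv : LieAlgebra.IsSolvable I := by
    obtain ⟨n, hn⟩ := LieAlgebra.IsSolvable.solvable k (LieAlgebra.radical k L)
    rw [LieIdeal.derivedSeries_eq_bot_iff] at hn
    refine LieAlgebra.IsSolvable.mk (R := k) (k := n + 1) ?_
    rw [LieIdeal.derivedSeries_eq_bot_iff, eq_bot_iff, ← hn,
      LieAlgebra.derivedSeriesOfIdeal_add]
    refine LieAlgebra.derivedSeriesOfIdeal_mono ?_ n
    rw [LieAlgebra.derivedSeriesOfIdeal_succ, LieAlgebra.derivedSeriesOfIdeal_zero,
      LieSubmodule.lie_le_iff]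
    intro a _ c hc
    exact (LieSubmodule.mem_normalizer _ _).1 hc a
  exact (LieAlgebra.LieIdeal.solvable_iff_le_radical k L I).1 hsolv (pmap_mem_normalizer φ _ hx)

omit hp [CharP k p] in
/-- An ideal all of whose elements are ad-nilpotent on `L` is nilpotent. -/
theorem isNilpotent_of_ad_nilpotent (I : LieIdeal k L)
    (h : ∀ a ∈ I, IsNilpotent (LieAlgebra.ad k L a)) : LieRing.IsNilpotent I := by
  rw [LieAlgebra.isNilpotent_iff_forall (R := k)]
  intro a
  obtain ⟨n, hn⟩ := h a a.2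
  refine ⟨n, LinearMap.ext fun w => Subtype.ext ?_⟩
  have e := DHA.LieAdPow.map_ad_pow (LieIdeal.incl I) a n w
  simp only [LieIdeal.incl_apply] at e
  rw [e, hn]
  rfl

omit hp [CharP k p] [Module.Finite k L] in
/-- Elements of a nilpotent ideal are ad-nilpotent on `L`, uniformly. -/
theorem exists_ad_pow_eq_zero (N : LieIdeal k L) (hN : LieRing.IsNilpotent N) :
    ∃ K, ∀ a ∈ N, LieAlgebra.ad k L a ^ K = 0 := by
  obtain ⟨K, hK⟩ := LieAlgebra.nilpotent_ad_of_nilpotent_algebra k N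
  refine ⟨K + 1, fun a ha => LinearMap.ext fun z => ?_⟩
  have hmem : ⁅a, z⁆ ∈ N := lie_mem_left k L N a z ha
  rw [pow_succ, Module.End.mul_apply, LieAlgebra.ad_apply]
  have e := DHA.LieAdPow.map_ad_pow (LieIdeal.incl N) ⟨a, ha⟩ K ⟨⁅a, z⁆, hmem⟩
  simp only [LieIdeal.incl_apply] at e
  rw [← e, hK]
  rfl

include hp in
theorem nilradical_stable (N : LieIdeal k L) (hN : LieRing.IsNilpotent N)
    (hmax : ∀ I : LieIdeal k L, LieRing.IsNilpotent I → I ≤ N) (x : L) (hx : x ∈ N) :
    φ x ∈ N := by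
  have hy : ∀ z, ⁅φ x, z⁆ ∈ N := fun z => by
    rw [pmap_ad]; exact ad_pow_mem N hx p hp.out.pos z
  let J : LieIdeal k L :=
    { toSubmodule := N.toSubmodule ⊔ k ∙ φ x
      lie_mem := fun {z m} hm => by
        obtain ⟨n, hn, w, hw, rfl⟩ := Submodule.mem_sup.1 hm
        obtain ⟨c, rfl⟩ := Submodule.mem_span_singleton.1 hw
        refine Submodule.mem_sup_left ?_
        rw [lie_add, lie_smul, ← lie_skew z (φ x)]
        exact add_mem (N.lie_mem hn) (Submodule.smul_mem _ c (neg_mem (hy z))) }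
  let C : ℕ → Set L := fun m =>
    Subtype.val '' (LieModule.lowerCentralSeries k N N m : Set N)
  have hstep : ∀ a ∈ N, ∀ m, ∀ v ∈ C m, ⁅a, v⁆ ∈ C (m + 1) := by
    rintro a ha m _ ⟨v, hv, rfl⟩
    exact ⟨⁅(⟨a, ha⟩ : N), v⁆,
      LieModule.lowerCentralSeries_succ k N N m ▸
        LieSubmodule.lie_mem_lie (LieSubmodule.mem_top _) hv, rfl⟩
  have hanti : ∀ {m m'}, m ≤ m' → C m' ⊆ C m := fun h =>
    Set.image_mono (LieModule.antitone_lowerCentralSeries k N N h)
  have hpow : ∀ j m, ∀ v ∈ C m, (LieAlgebra.ad k L x ^ j) v ∈ C (m + j) := by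
    intro j
    induction j with
    | zero => intro m v hv; simpa using hv
    | succ j ih =>
      intro m v hv
      rw [pow_succ', Module.End.mul_apply, ← Nat.add_assoc, LieAlgebra.ad_apply]
      exact hstep x hx _ _ (ih m v hv)
  obtain ⟨K, hK⟩ := LieModule.IsNilpotent.nilpotent k N N
  have hJ : LieRing.IsNilpotent J := by
    refine isNilpotent_of_ad_nilpotent J fun a ha => ?_
    obtain ⟨n, hn, w, hw, rfl⟩ := Submodule.mem_sup.1 ha
    obtain ⟨c, rfl⟩ := Submodule.mem_span_singleton.1 hw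
    have ha1 : ∀ z, ⁅n + c • φ x, z⁆ ∈ N := fun z => by
      rw [add_lie, smul_lie]
      exact add_mem (lie_mem_left k L N n z hn) (SMulMemClass.smul_mem c (hy z))
    have ha2 : ∀ m, ∀ v ∈ C m, ⁅n + c • φ x, v⁆ ∈ C (m + 1) := by
      intro m v hv
      rw [add_lie, smul_lie, pmap_ad]
      obtain ⟨u₁, hu₁, e₁⟩ := hstep n hn m v hv
      obtain ⟨u₂, hu₂, e₂⟩ := hanti (by have := hp.out.pos; omega : m + 1 ≤ m + p) (hpow p m v hv)
      exact ⟨u₁ + c • u₂, add_mem hu₁ (SMulMemClass.smul_mem c hu₂), by simp [e₁, e₂]⟩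
    have ha3 : ∀ j z, (LieAlgebra.ad k L (n + c • φ x) ^ (j + 1)) z ∈ C j := by
      intro j z
      induction j with
      | zero =>
        rw [zero_add, pow_one, LieAlgebra.ad_apply]
        exact ⟨⟨_, ha1 z⟩, by rw [LieModule.lowerCentralSeries_zero]; exact LieSubmodule.mem_top _, rfl⟩
      | succ j ih =>
        rw [pow_succ', Module.End.mul_apply, LieAlgebra.ad_apply]
        exact ha2 j _ ih
    refine ⟨K + 1, LinearMap.ext fun z => ?_⟩
    obtain ⟨v, hv, e⟩ := ha3 K z
    rw [hK, SetLike.mem_coe, LieSubmodule.mem_bot] at hv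
    rw [← e, hv]; rfl
  exact hmax J hJ (Submodule.mem_sup_right (Submodule.mem_span_singleton_self _))

omit hp in
theorem isNilpotent_of_pnilpotent (I : LieIdeal k L) (hnil : ∀ x ∈ I, PLie.IsPNilpotent φ x) :
    LieRing.IsNilpotent I := by
  refine isNilpotent_of_ad_nilpotent I fun a ha => ?_
  obtain ⟨n, hn⟩ := hnil a ha
  exact ⟨p ^ n, by rw [← pow_ad_iterate φ, hn, map_zero]⟩

include hp in
theorem nilradical_eq_pRadical_iff (N : LieIdeal k L) (hN : LieRing.IsNilpotent N)
    (hNmax : ∀ I : LieIdeal k L, LieRing.IsNilpotent I → I ≤ N)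
    (P : LieIdeal k L) (hPnil : ∀ x ∈ P, PLie.IsPNilpotent φ x)
    (hPmax : ∀ J : LieIdeal k L, (∀ x ∈ J, φ x ∈ J) → (∀ x ∈ J, PLie.IsPNilpotent φ x) → J ≤ P) :
    N = P ↔ LieAlgebra.center k L ≤ P := by
  constructor
  · rintro rfl
    refine hNmax _ (isNilpotent_of_ad_nilpotent _ fun a ha => ⟨1, LinearMap.ext fun z => ?_⟩)
    rw [pow_one, LieAlgebra.ad_apply, ← lie_skew,
      (LieModule.mem_maxTrivSubmodule k L L a).1 ha z, neg_zero]
    rfl
  · intro hc
    refine le_antisymm (hPmax N (nilradical_stable φ N hN hNmax) fun x hx => ?_)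
      (hNmax P (isNilpotent_of_pnilpotent φ P hPnil))
    obtain ⟨K, hK⟩ := exists_ad_pow_eq_zero N hN
    have hcen : φ.toFun^[K] x ∈ LieAlgebra.center k L := by
      rw [LieModule.mem_maxTrivSubmodule]
      intro z
      rw [← lie_skew, ← LieAlgebra.ad_apply (R := k), pow_ad_iterate φ,
        pow_eq_zero_of_le (Nat.lt_pow_self hp.out.one_lt).le (hK x hx), LinearMap.zero_apply, neg_zero]
    obtain ⟨m, hm⟩ := hPnil _ (hc hcen)
    exact ⟨m + K, by rw [Function.iterate_add_apply, hm]⟩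

end PLieLib
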