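import Groth.Prelude.Def_PLie
import Mathlib.Algebra.Polynomial.Derivative
import Mathlib.Algebra.Polynomial.Eval.Degree
import Mathlib.Algebra.Polynomial.AlgebraMap
import Mathlib.Algebra.CharP.Lemmas
import Mathlib.Algebra.CharP.Algebra
import Mathlib.Data.Nat.Choose.Dvd
import Mathlib.Algebra.Lie.OfAssociative

/-!
# Jacobson's formula

In an associative algebra over a commutative ring of characteristic `p`,
`(x₀ + x₁) ^ p = x₀ ^ p + x₁ ^ p - J_p (x₀, x₁)` and `ad (a ^ p) = (ad a) ^ p`.
-/

universe u v w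
open Polynomial
open scoped BigOperators

namespace PLieLib

attribute [local instance 100] LieRing.ofAssociativeRing

section Basic

variable {L : Type v} [LieRing L] {L' : Type w} [LieRing L'] {R : Type u} [CommRing R]
  [LieAlgebra R L] [LieAlgebra R L']

lemma map_bracketWord {ι : Type*} (f : L →ₗ⁅R⁆ L') (x : ι → L) (x₁ : L) (w : List ι) :
    f (PLie.bracketWord x x₁ w) = PLie.bracketWord (f ∘ x) (f x₁) w := by
  induction w with
  | nil => rfl
  | cons i w ih => simp [LieHom.map_lie, ih]

lemma map_jacobson (p : ℕ) [CharP R p] (f : L →ₗ⁅R⁆ L') (x₀ x₁ : L) :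
    f (PLie.jacobson R p x₀ x₁) = PLie.jacobson R p (f x₀) (f x₁) := by
  have h : (f ∘ PLie.pair x₀ x₁) = PLie.pair (f x₀) (f x₁) := by
    funext b; cases b <;> rfl
  simp only [PLie.jacobson, map_sum, map_smul, map_bracketWord, h]

lemma bracketWord_zero {ι : Type*} (x : ι → L) (w : List ι) : PLie.bracketWord x 0 w = 0 := by
  induction w with
  | nil => rfl
  | cons i w ih => simp [ih]

@[simp] lemma jacobson_zero_right (p : ℕ) [CharP R p] (x : L) :
    PLie.jacobson R p x 0 = 0 := by
  simp [PLie.jacobson, bracketWord_zero]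

end Basic

section CharPow

variable {A : Type v} [Ring A]

lemma choose_pred_cast {p : ℕ} (hp : p.Prime) (h0 : (p : A) = 0) :
    ∀ {i : ℕ}, i ≤ p - 1 → (((p - 1).choose i : ℕ) : A) = (-1) ^ i
  | 0, _ => by simp
  | i + 1, hi => by
    have hd : p ∣ ((p - 1) + 1).choose (i + 1) := by
      rw [Nat.sub_add_cancel hp.one_le]
      exact hp.dvd_choose_self (Nat.succ_ne_zero _) (by omega)
    obtain ⟨c, hc⟩ := hd
    rw [Nat.choose_succ_succ] at hc
    have h := congrArg (Nat.cast : ℕ → A) hc
    push_cast at h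
    rw [h0, zero_mul, choose_pred_cast hp h0 (i := i) (by omega)] at h
    rw [pow_succ, mul_neg_one]
    exact eq_neg_of_add_eq_zero_right h

lemma sub_pow_pred {p : ℕ} (hp : p.Prime) (h0 : (p : A) = 0) {L R : A} (hc : Commute L R) :
    (L - R) ^ (p - 1) = ∑ i ∈ Finset.range p, L ^ i * R ^ (p - 1 - i) := by
  have hz : ((-1 : A)) ^ (p - 1) = 1 := by
    have := choose_pred_cast (A := A) hp h0 (i := p - 1) le_rfl
    simpa using this.symm
  rw [sub_eq_add_neg, hc.neg_right.add_pow, Nat.sub_add_cancel hp.one_le]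
  refine Finset.sum_congr rfl fun i hi => ?_
  have hi' : i ≤ p - 1 := by rw [Finset.mem_range] at hi; omega
  rw [choose_pred_cast hp h0 hi', neg_pow R, mul_assoc, mul_assoc,
    ← (Commute.neg_one_left (R ^ (p - 1 - i))).pow_left i |>.eq, ← mul_assoc ((-1 : A) ^ (p - 1 - i)),
    ← pow_add, Nat.sub_add_cancel hi', hz, one_mul]

end CharPow

section Assoc

variable (R : Type u) [CommRing R] (p : ℕ) [hp : Fact p.Prime] [CharP R p]
variable {A : Type v} [Ring A] [Algebra R A]

include R in
omit hp in
lemma natCast_eq_zero : (p : A) = 0 := by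
  rw [← map_natCast (algebraMap R A), CharP.cast_eq_zero R p, map_zero]

include hp in
lemma ad_pow_p (a : A) : LieAlgebra.ad R A a ^ p = LieAlgebra.ad R A (a ^ p) := by
  have hc : Commute (LinearMap.mulLeft R a) (LinearMap.mulRight R a) :=
    LinearMap.commute_mulLeft_right a a
  have h0 : ((p : ℕ) : Module.End R A) = 0 := natCast_eq_zero R p (A := Module.End R A)
  have e : ∀ x : A, LieAlgebra.ad R A x = LinearMap.mulLeft R x - LinearMap.mulRight R x :=
    fun x => congrFun (LieAlgebra.ad_eq_lmul_left_sub_lmul_right (R := R) A) x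
  rw [e, e, sub_eq_add_neg, hc.neg_right.add_pow_prime_eq hp.out, h0]
  simp only [zero_mul, add_zero]
  rw [← LinearMap.pow_mulLeft, ← LinearMap.pow_mulRight, sub_eq_add_neg]
  congr 1
  rw [neg_pow]
  rcases hp.out.eq_two_or_odd' with rfl | ho
  · have h2 : (1 : Module.End R A) + 1 = 0 := by
      rw [one_add_one_eq_two]; exact_mod_cast h0
    rw [show (-1 : Module.End R A) = 1 from (eq_neg_of_add_eq_zero_left h2).symm]
    simpa using (show LinearMap.mulRight R (a ^ 2) = -LinearMap.mulRight R (a ^ 2) from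
      eq_neg_of_add_eq_zero_left (by rw [← one_mul (LinearMap.mulRight R (a ^ 2)), ← add_mul, h2, zero_mul]))
  · rw [ho.neg_one_pow, neg_one_mul]

/-- `z = T x₀ + x₁`. -/
noncomputable def line (x₀ x₁ : A) : A[X] := C x₀ * X + C x₁

lemma derivative_pow_noncomm (f : A[X]) (n : ℕ) :
    derivative (f ^ n) = ∑ i ∈ Finset.range n, f ^ i * derivative f * f ^ (n - 1 - i) := by
  induction n with
  | zero => simp
  | succ n ih =>
    rw [pow_succ, derivative_mul, ih, Finset.sum_range_succ, Finset.sum_mul]
    congr 1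
    · refine Finset.sum_congr rfl fun i hi => ?_
      rw [Finset.mem_range] at hi
      rw [mul_assoc, ← pow_succ]
      congr 2; omega
    · simp

include R hp in
lemma X_mul_derivative_line_pow (x₀ x₁ : A) :
    X * derivative (line x₀ x₁ ^ p) =
      -((LinearMap.mulLeft R (line x₀ x₁) - LinearMap.mulRight R (line x₀ x₁)) ^ (p - 1))
        (C x₁) := by
  set z := line x₀ x₁ with hz
  have hd : derivative z = C x₀ := by simp [hz, line]
  have h0 : ((p : ℕ) : Module.End R A[X]) = 0 := natCast_eq_zero R p (A := Module.End R A[X])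
  rw [sub_pow_pred hp.out h0 (LinearMap.commute_mulLeft_right z z), LinearMap.sum_apply,
    derivative_pow_noncomm, Finset.mul_sum, ← Finset.sum_neg_distrib, hd, ← sub_eq_zero,
    ← Finset.sum_sub_distrib]
  have : ∀ i ∈ Finset.range p, X * (z ^ i * C x₀ * z ^ (p - 1 - i)) -
      -((LinearMap.mulLeft R z ^ i * LinearMap.mulRight R z ^ (p - 1 - i)) (C x₁)) = z ^ p := by
    intro i hi
    rw [Finset.mem_range] at hi
    rw [Module.End.mul_apply, LinearMap.pow_mulLeft, LinearMap.pow_mulRight,
      LinearMap.mulLeft_apply, LinearMap.mulRight_apply, sub_neg_eq_add, ← mul_assoc X,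
      ← mul_assoc X, (commute_X (z ^ i)).eq, mul_assoc (z ^ i) X, X_mul_C, ← mul_assoc (z ^ i) (C x₁),
      ← add_mul, ← mul_add, mul_assoc]
    rw [← mul_assoc, show C x₀ * X + C x₁ = z from rfl, ← pow_succ, ← pow_add]
    congr 1; omega
  rw [Finset.sum_congr rfl this, Finset.sum_const, Finset.card_range, nsmul_eq_mul,
    natCast_eq_zero R p, zero_mul]

/-- number of `false` entries -/
noncomputable def numFalse {n : ℕ} (t : Fin n → Bool) : ℕ := Fintype.card {i // t i = false}

lemma numFalse_cons {n : ℕ} (b : Bool) (t : Fin n → Bool) :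
    numFalse (Fin.cons b t : Fin (n + 1) → Bool) = numFalse t + if b then 0 else 1 := by
  simp only [numFalse, Fintype.card_subtype, Finset.card_filter, Fin.sum_univ_succ, Fin.cons_zero,
    Fin.cons_succ]
  cases b <;> simp [add_comm]

lemma ad_line_pow (x₀ x₁ : A) (n : ℕ) :
    ((LinearMap.mulLeft R (line x₀ x₁) - LinearMap.mulRight R (line x₀ x₁)) ^ n) (C x₁) =
      ∑ t : Fin n → Bool, X ^ numFalse t *
        C (PLie.bracketWord (PLie.pair x₀ x₁) x₁ (List.ofFn t)) := by
  induction n with
  | zero => simp [numFalse]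
  | succ n ih =>
    rw [pow_succ', Module.End.mul_apply, ih, map_sum,
      ← (Fin.consEquiv (fun _ : Fin (n + 1) => Bool)).sum_comp, Fintype.sum_prod_type,
      Fintype.sum_bool, ← Finset.sum_add_distrib]
    refine Finset.sum_congr rfl fun t _ => ?_
    simp only [Fin.consEquiv, Equiv.coe_fn_mk, numFalse_cons, List.ofFn_cons, PLie.bracketWord_cons,
      LinearMap.sub_apply, LinearMap.mulLeft_apply, LinearMap.mulRight_apply, PLie.pair,
      if_true, Bool.false_eq_true, if_false, add_zero, line, Ring.lie_def, C_sub, C_mul]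
    generalize C (PLie.bracketWord _ x₁ (List.ofFn t)) = w
    have hl : ∀ (a b : A) (k : ℕ), (C a * X + C b) * (X ^ k * w) =
        X ^ (k + 1) * (C a * w) + X ^ k * (C b * w) := fun a b k => by
      have e1 : C a * X * X ^ k = X ^ (k + 1) * C a := by
        rw [mul_assoc, ← pow_succ', ← X_pow_mul]
      rw [add_mul, ← mul_assoc, e1, mul_assoc, ← mul_assoc (C b), ← X_pow_mul, mul_assoc]
    have hr : ∀ (a b : A) (k : ℕ), (X ^ k * w) * (C a * X + C b) =
        X ^ (k + 1) * (w * C a) + X ^ k * (w * C b) := fun a b k => by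
      have e2 : (X ^ k * w) * (C a * X) = X ^ (k + 1) * (w * C a) := by
        rw [mul_assoc, ← mul_assoc w, ← X_mul, pow_succ, mul_assoc]
      rw [mul_add, e2, mul_assoc (X ^ k) w (C b)]
    rw [hl, hr]
    simp only [mul_sub]
    abel

lemma coeff_line_pow_top (x₀ x₁ : A) (n : ℕ) :
    (line x₀ x₁ ^ n).natDegree ≤ n ∧ (line x₀ x₁ ^ n).coeff n = x₀ ^ n := by
  have h1 : (line x₀ x₁).natDegree ≤ 1 := natDegree_linear_le
  induction n with
  | zero => simp
  | succ n ih =>
    refine ⟨?_, ?_⟩
    · rw [pow_succ]; exact natDegree_mul_le.trans (by omega)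
    · rw [pow_succ, coeff_mul_add_eq_of_natDegree_le ih.1 h1, ih.2, pow_succ]
      simp [line]

variable {R p}

include hp in
/-- Jacobson's formula. -/
theorem add_pow_p (x₀ x₁ : A) :
    (x₀ + x₁) ^ p = x₀ ^ p + x₁ ^ p - PLie.jacobson R p x₀ x₁ := by
  obtain ⟨m, hm⟩ : ∃ m, p = m + 1 + 1 := ⟨p - 2, by have := hp.out.two_le; omega⟩
  set P := line x₀ x₁ ^ p with hP
  set word := fun t : Fin (p - 1) → Bool =>
    PLie.bracketWord (PLie.pair x₀ x₁) x₁ (List.ofFn t) with hword
  set cst : ℕ → R := fun r => ZMod.castHom (dvd_refl p) R ((r : ZMod p)⁻¹) with hcst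
  have hz : ∀ r, 0 < r →
      (∑ t ∈ Finset.univ.filter (fun t : Fin (p - 1) → Bool => numFalse t = r), word t) =
        -((r : R) • P.coeff r) := by
    intro r hr
    have h := congrArg (fun f => Polynomial.coeff f r) (X_mul_derivative_line_pow R p x₀ x₁)
    rw [ad_line_pow, coeff_neg, finsetSum_coeff] at h
    obtain ⟨r, rfl⟩ := Nat.exists_eq_succ_of_ne_zero hr.ne'
    rw [Nat.succ_eq_add_one] at *
    rw [coeff_X_mul, coeff_derivative] at h
    have e : ((r : A) + 1) = algebraMap R A ((r + 1 : ℕ) : R) := by simp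
    rw [e, ← Algebra.commutes, ← Algebra.smul_def, eq_comm, neg_eq_iff_eq_neg] at h
    rw [← h, Finset.sum_filter]
    refine Finset.sum_congr rfl fun t _ => ?_
    rw [X_pow_mul, coeff_C_mul_X_pow]
    exact if_congr eq_comm rfl rfl
  have hle : ∀ t : Fin (p - 1) → Bool, numFalse t ∈ Finset.range p := fun t => by
    rw [Finset.mem_range, numFalse]
    have := Fintype.card_subtype_le (fun i => t i = false)
    rw [Fintype.card_fin] at this
    omega
  have hJ : PLie.jacobson R p x₀ x₁ = -∑ r ∈ Finset.range (m + 1), P.coeff (r + 1) := by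
    have e : PLie.jacobson R p x₀ x₁ = ∑ t, cst (numFalse t) • word t := rfl
    rw [e, ← Finset.sum_fiberwise_of_maps_to (g := numFalse) (fun t _ => hle t),
      ← Finset.sum_neg_distrib]
    have he : ∀ r, ∑ t ∈ Finset.univ.filter (fun t : Fin (p - 1) → Bool => numFalse t = r),
        cst (numFalse t) • word t = cst r • ∑ t ∈ Finset.univ.filter
          (fun t : Fin (p - 1) → Bool => numFalse t = r), word t := fun r => by
      rw [Finset.smul_sum]
      exact Finset.sum_congr rfl fun t ht => by rw [(Finset.mem_filter.1 ht).2]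
    simp only [he]
    rw [show Finset.range p = Finset.range (m + 1 + 1) by rw [← hm], Finset.sum_range_succ',
      show cst 0 = 0 by simp only [hcst, Nat.cast_zero, ZMod.inv_zero, map_zero], zero_smul, add_zero]
    refine Finset.sum_congr rfl fun r hr => ?_
    rw [hz _ (Nat.succ_pos r), smul_neg, smul_smul]
    have hu : IsUnit ((r + 1 : ℕ) : ZMod p) := by
      rw [ZMod.isUnit_iff_coprime, Nat.coprime_comm, hp.out.coprime_iff_not_dvd]
      rw [Finset.mem_range] at hr
      exact Nat.not_dvd_of_pos_of_lt (Nat.succ_pos _) (by omega)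
    rw [show cst (r + 1) * ((r + 1 : ℕ) : R) = 1 by
      rw [hcst, ← map_natCast (ZMod.castHom (dvd_refl p) R) (r + 1), ← map_mul]
      exact (congrArg _ (ZMod.inv_mul_of_unit _ hu)).trans (map_one _), one_smul]
  have hev : (x₀ + x₁) ^ p = ∑ r ∈ Finset.range (p + 1), P.coeff r := by
    let ev : A[X] →+* A := eval₂RingHom' (RingHom.id A) 1 (fun a => Commute.one_right a)
    have h1 : ev (line x₀ x₁) = x₀ + x₁ := by simp [ev, line, eval₂RingHom']
    rw [← h1, ← map_pow, ← hP]
    change eval₂ (RingHom.id A) 1 P = _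
    rw [eval₂_eq_sum_range' _ (Nat.lt_succ_of_le (coeff_line_pow_top x₀ x₁ p).1)]
    simp [hP]
  have h0 : P.coeff 0 = x₁ ^ p := by
    rw [hP, ← constantCoeff_apply, map_pow]
    simp [line]
  rw [hev, hJ, Finset.sum_range_succ,
    show Finset.range p = Finset.range (m + 1 + 1) by rw [← hm], Finset.sum_range_succ', h0,
    (coeff_line_pow_top x₀ x₁ p).2, sub_neg_eq_add]
  abel

variable (R p A) in
/-- The `p`-structure of an associative algebra. -/
@[reducible] noncomputable def assocPMap : PLie.PMap R p A where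
  toFun x := x ^ p
  map_smul c x := smul_pow c x p
  ad_map x := (ad_pow_p R p x).symm
  map_add := add_pow_p

end Assoc

end PLieLib
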