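import Groth.Agent.PLieLib.Table
import Mathlib.Algebra.Field.GeomSum
import Mathlib.Algebra.Field.Basic
import Mathlib.Tactic.LinearCombination

/-!
# Restrictability of first-order deformations of `l_t`
-/

universe u v
open scoped DualNumber
open DualNumber TrivSqZeroExt

namespace PLieLib.L3Def

variable {K : Type u} [Field K] {p : ℕ} [Fact p.Prime] [CharP K p]

/-- `ε` times a scalar. -/
noncomputable abbrev e' (a : K) : K[ε] := a • ε

omit [Fact p.Prime] [CharP K p] [Field K] in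
lemma ext2 {u w : K[ε]} (h1 : u.fst = w.fst) (h2 : u.snd = w.snd) : u = w := TrivSqZeroExt.ext h1 h2

omit [Fact p.Prime] in
lemma geom_sum_prime_field {t : K} (ht : t ^ p = t) :
    (t = 1 → ∑ j ∈ Finset.range p, t ^ j = 0) ∧ (t ≠ 1 → ∑ j ∈ Finset.range p, t ^ j = 1) := by
  refine ⟨fun h => ?_, fun h => ?_⟩
  · subst h; simp
  · rw [geom_sum_eq h, ht, div_self (sub_ne_zero.2 h)]

variable [CharP (DualNumber K) p] {t a b c d e f g h i : K}
  {L : Type v} [LieRing L] [LieAlgebra (DualNumber K) L]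
  {bs : Module.Basis (Fin 3) (DualNumber K) L}
  (hxy : ⁅bs 0, bs 1⁆ = comb bs (e' a) (1 + e' b) (e' c))
  (hxz : ⁅bs 0, bs 2⁆ = comb bs (e' d) (e' e) (algebraMap K (DualNumber K) t + e' f))
  (hyz : ⁅bs 1, bs 2⁆ = comb bs (e' g) (e' h) (e' i))

include hxy hxz hyz in
omit [Fact p.Prime] [CharP K p] [CharP (DualNumber K) p] in
lemma jacobi : g * (1 + t) = 0 ∧ d = t * h := by
  obtain ⟨h0, h1, h2⟩ := lie_comb' hxy hxz hyz (e' g) (e' h) (e' i)
  have hyx : LieAlgebra.ad (DualNumber K) L (bs 1) (bs 0) = comb bs (-e' a) (-(1 + e' b)) (-e' c) := by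
    rw [LieAlgebra.ad_apply, ← lie_skew, hxy]; simp only [comb]; module
  have hy1 : LieAlgebra.ad (DualNumber K) L (bs 1) (bs 1) = comb bs 0 0 0 := by
    rw [LieAlgebra.ad_apply, lie_self, comb_zero]
  have hy2 : LieAlgebra.ad (DualNumber K) L (bs 1) (bs 2) = comb bs (e' g) (e' h) (e' i) := by
    rw [LieAlgebra.ad_apply, hyz]
  have J := leibniz_lie (bs 0) (bs 1) (bs 2)
  rw [hxy, hyz, hxz, (lie_comb' hxy hxz hyz _ _ _).2.2, ← lie_skew, h0] at J
  rw [← LieAlgebra.ad_apply (R := DualNumber K) (x := bs 1), map_comb' _ hyx hy1 hy2] at J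
  simp only [comb] at J
  rw [← sub_eq_zero] at J
  have J' : comb bs
      (-(-(e' h * e' a) - e' i * e' d) - (e' a * e' d + (1 + e' b) * e' g +
        (e' d * -e' a + e' e * 0 + (algebraMap K (DualNumber K) t + e' f) * e' g)))
      (-(-(e' h * (1 + e' b)) - e' i * e' e) - (e' a * e' e + (1 + e' b) * e' h +
        (e' d * -(1 + e' b) + e' e * 0 + (algebraMap K (DualNumber K) t + e' f) * e' h)))
      (-(-(e' h * e' c) - e' i * (algebraMap K (DualNumber K) t + e' f)) -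
        (e' a * (algebraMap K (DualNumber K) t + e' f) + (1 + e' b) * e' i +
        (e' d * -e' c + e' e * 0 + (algebraMap K (DualNumber K) t + e' f) * e' i))) = comb bs 0 0 0 := by
    rw [comb_zero]; refine Eq.trans ?_ J; simp only [comb]; module
  obtain ⟨j0, j1, -⟩ := comb_eq.1 J'
  have k0 := congrArg TrivSqZeroExt.snd j0
  have k1 := congrArg TrivSqZeroExt.snd j1
  simp [TrivSqZeroExt.algebraMap_eq_inl] at k0 k1
  constructor
  · linear_combination -k0
  · linear_combination k1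

include hxy hxz in
omit [Fact p.Prime] [CharP K p] [CharP (DualNumber K) p] in
lemma adx_pow (n : ℕ) :
    (LieAlgebra.ad (DualNumber K) L (bs 0) ^ (n + 1)) (bs 1) =
        comb bs (e' a) (1 + e' ((n + 1 : ℕ) * b))
          (e' (c * ∑ j ∈ Finset.range (n + 1), t ^ j)) ∧
    (LieAlgebra.ad (DualNumber K) L (bs 0) ^ (n + 1)) (bs 2) =
        comb bs (e' (d * t ^ n)) (e' (e * ∑ j ∈ Finset.range (n + 1), t ^ j))
          (algebraMap K (DualNumber K) (t ^ (n + 1)) + e' ((n + 1 : ℕ) * f * t ^ n)) := by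
  have hx : LieAlgebra.ad (DualNumber K) L (bs 0) (bs 0) = comb bs 0 0 0 := by
    rw [LieAlgebra.ad_apply, lie_self, comb_zero]
  have h1 : LieAlgebra.ad (DualNumber K) L (bs 0) (bs 1) = _ := (LieAlgebra.ad_apply ..).trans hxy
  have h2 : LieAlgebra.ad (DualNumber K) L (bs 0) (bs 2) = _ := (LieAlgebra.ad_apply ..).trans hxz
  induction n with
  | zero => simp [hxy, hxz]
  | succ n ih =>
    rw [pow_succ' _ (n + 1)]
    simp only [Module.End.mul_apply, ih, map_comb' _ hx h1 h2, comb_eq]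
    have hS : ∑ j ∈ Finset.range (n + 1 + 1), t ^ j = 1 + t * ∑ j ∈ Finset.range (n + 1), t ^ j := by
      rw [geom_sum_succ]; ring
    have key : (∑ j ∈ Finset.range (n + 1), t ^ j) + t ^ (n + 1) =
        1 + t * ∑ j ∈ Finset.range (n + 1), t ^ j := by
      rw [← Finset.sum_range_succ]; exact hS
    refine ⟨⟨?_, ?_, ?_⟩, ?_, ?_, ?_⟩ <;> apply ext2 <;>
      simp [TrivSqZeroExt.algebraMap_eq_inl, hS]
    all_goals (first | ring1 | linear_combination e * key)

include hxy hxz hyz in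
theorem criterion (ht : t ^ p = t) :
    Nonempty (PLie.PMap (DualNumber K) p L) ↔
      (b * t = f ∧ (t = 1 → c = 0 ∧ e = 0) ∧ (p = 2 → g = 0)) := by
  have hpr : p.Prime := Fact.out
  obtain ⟨hg, hd⟩ := jacobi hxy hxz hyz
  obtain ⟨hS1, hS⟩ := geom_sum_prime_field (p := p) ht
  have hsm : ∀ s : K, (p : K) * s = 0 := fun s => by rw [CharP.cast_eq_zero K p, zero_mul]
  have hdp : d * t ^ (p - 1) = d := by
    rw [hd, mul_assoc, mul_left_comm, ← pow_succ', Nat.sub_add_cancel hpr.one_le, ht]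
    ring
  set S := ∑ j ∈ Finset.range p, t ^ j with hSdef
  have hxp : (LieAlgebra.ad (DualNumber K) L (bs 0) ^ p) (bs 1) = comb bs (e' a) 1 (e' (c * S)) ∧
      (LieAlgebra.ad (DualNumber K) L (bs 0) ^ p) (bs 2) =
        comb bs (e' d) (e' (e * S)) (algebraMap K (DualNumber K) t) := by
    have hk := adx_pow hxy hxz (t := t) (p - 1)
    rw [Nat.sub_add_cancel hpr.one_le] at hk
    refine ⟨hk.1.trans (comb_eq.2 ⟨rfl, ?_, rfl⟩), hk.2.trans (comb_eq.2 ⟨by rw [hdp], rfl, ?_⟩)⟩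
    · apply ext2 <;> simp [hsm, TrivSqZeroExt.algebraMap_eq_inl]
    · apply ext2 <;> simp [hsm, ht, TrivSqZeroExt.algebraMap_eq_inl, mul_assoc]
  have hyx : LieAlgebra.ad (DualNumber K) L (bs 1) (bs 0) =
      comb bs (-e' a) (-(1 + e' b)) (-e' c) := by
    rw [LieAlgebra.ad_apply, ← lie_skew, hxy]; simp only [comb]; module
  have hy1 : LieAlgebra.ad (DualNumber K) L (bs 1) (bs 1) = comb bs 0 0 0 := by
    rw [LieAlgebra.ad_apply, lie_self, comb_zero]
  have hy2 : LieAlgebra.ad (DualNumber K) L (bs 1) (bs 2) = comb bs (e' g) (e' h) (e' i) := by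
    rw [LieAlgebra.ad_apply, hyz]
  have hzx : LieAlgebra.ad (DualNumber K) L (bs 2) (bs 0) =
      comb bs (-e' d) (-e' e) (-(algebraMap K (DualNumber K) t + e' f)) := by
    rw [LieAlgebra.ad_apply, ← lie_skew, hxz]; simp only [comb]; module
  have hzy : LieAlgebra.ad (DualNumber K) L (bs 2) (bs 1) = comb bs (-e' g) (-e' h) (-e' i) := by
    rw [LieAlgebra.ad_apply, ← lie_skew, hyz]; simp only [comb]; module
  have hz2 : LieAlgebra.ad (DualNumber K) L (bs 2) (bs 2) = comb bs 0 0 0 := by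
    rw [LieAlgebra.ad_apply, lie_self, comb_zero]
  set Ny := LieAlgebra.ad (DualNumber K) L (bs 1) with hNy
  set Nz := LieAlgebra.ad (DualNumber K) L (bs 2) with hNz
  have y2x : (Ny ^ 2) (bs 0) = comb bs 0 (e' a) 0 := by
    rw [pow_two, Module.End.mul_apply, hyx, map_comb' Ny hyx hy1 hy2, comb_eq]
    refine ⟨?_, ?_, ?_⟩ <;> apply ext2 <;> simp
  have y2y : (Ny ^ 2) (bs 1) = comb bs 0 0 0 := by
    rw [pow_two, Module.End.mul_apply, hy1, comb_zero, map_zero]
  have y2z : (Ny ^ 2) (bs 2) = comb bs 0 (-e' g) 0 := by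
    rw [pow_two, Module.End.mul_apply, hy2, map_comb' Ny hyx hy1 hy2, comb_eq]
    refine ⟨?_, ?_, ?_⟩ <;> apply ext2 <;> simp
  have z2x : (Nz ^ 2) (bs 0) = comb bs 0 0 (e' (d * t)) := by
    rw [pow_two, Module.End.mul_apply, hzx, map_comb' Nz hzx hzy hz2, comb_eq]
    refine ⟨?_, ?_, ?_⟩ <;> apply ext2 <;> simp [TrivSqZeroExt.algebraMap_eq_inl]
  have z2y : (Nz ^ 2) (bs 1) = comb bs 0 0 (e' (g * t)) := by
    rw [pow_two, Module.End.mul_apply, hzy, map_comb' Nz hzx hzy hz2, comb_eq]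
    refine ⟨?_, ?_, ?_⟩ <;> apply ext2 <;> simp [TrivSqZeroExt.algebraMap_eq_inl]
  have z2z : (Nz ^ 2) (bs 2) = comb bs 0 0 0 := by
    rw [pow_two, Module.End.mul_apply, hz2, comb_zero, map_zero]
  rw [nonempty_pmap_iff bs]
  constructor
  · intro hw
    obtain ⟨w, hwx⟩ := hw 0
    obtain ⟨A, B, C, rfl⟩ := exists_comb (bs := bs) w
    obtain ⟨l0, l1, l2⟩ := lie_comb' hxy hxz hyz A B C
    have hxx : (LieAlgebra.ad (DualNumber K) L (bs 0) ^ p) (bs 0) = comb bs 0 0 0 := by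
      rw [comb_zero]; exact ad_pow_self _ hpr.one_le
    rw [hwx, LieAlgebra.ad_apply, l0, comb_eq] at hxx
    rw [hwx, LieAlgebra.ad_apply, LieAlgebra.ad_apply, l1, l2, comb_eq, comb_eq] at hxp
    obtain ⟨-, x1, x2⟩ := hxx
    obtain ⟨⟨-, y1, y2⟩, -, z1, z2⟩ := hxp
    have hB : B.fst = 0 := by simpa using congrArg TrivSqZeroExt.fst x1
    have hCt : C.fst * t = 0 := by
      simpa [TrivSqZeroExt.algebraMap_eq_inl, hB] using congrArg TrivSqZeroExt.fst x2
    have hA : A.fst = 1 := by simpa using congrArg TrivSqZeroExt.fst y1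
    have x2' := congrArg TrivSqZeroExt.snd x2
    have y1' := congrArg TrivSqZeroExt.snd y1
    have y2' := congrArg TrivSqZeroExt.snd y2
    have z1' := congrArg TrivSqZeroExt.snd z1
    have z2' := congrArg TrivSqZeroExt.snd z2
    simp [TrivSqZeroExt.algebraMap_eq_inl, hA, hB] at x2' y1' y2' z1' z2'
    refine ⟨?_, fun ht1 => ?_, fun hp2 => ?_⟩
    · rcases eq_or_ne t 0 with rfl | ht0
      · simpa [eq_comm] using z2'
      · have hC : C.fst = 0 := by simpa [ht0] using hCt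
        simp only [hC, zero_mul, mul_zero, sub_zero, add_zero, zero_add] at y1'
        linear_combination t * y1' - z2'
    · have hC : C.fst = 0 := by simpa [ht1] using hCt
      simp [hC, hS1 ht1] at y2' z1'
      exact ⟨y2', z1'⟩
    · subst hp2
      obtain ⟨w, hwy⟩ := hw 1
      obtain ⟨A, B, C, rfl⟩ := exists_comb (bs := bs) w
      obtain ⟨m0, m1, m2⟩ := lie_comb' hxy hxz hyz A B C
      rw [← hNy] at hwy
      rw [hwy, LieAlgebra.ad_apply, m0, comb_eq] at y2x
      rw [hwy, LieAlgebra.ad_apply, m1, comb_eq] at y2y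
      rw [hwy, LieAlgebra.ad_apply, m2, comb_eq] at y2z
      have hA : A.fst = 0 := by simpa using congrArg TrivSqZeroExt.fst y2y.2.1
      have hB : B.fst = 0 := by simpa using congrArg TrivSqZeroExt.fst y2x.2.1
      have z1' := congrArg TrivSqZeroExt.snd y2z.2.1
      simp [hA, hB] at z1'
      exact z1'
  · rintro ⟨hbt, hce, hg2⟩ i'
    have hcS : c * S = c ∧ e * S = e := by
      rcases eq_or_ne t 1 with h1 | h1
      · simp [(hce h1).1, (hce h1).2]
      · rw [hS h1, mul_one, mul_one]; exact ⟨rfl, rfl⟩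
    have hzero : ∀ N : Module.End (DualNumber K) L, (∀ j, (N ^ 2) (bs j) = 0 ∨ (N ^ 3) (bs j) = 0) →
        3 ≤ p → N ^ p = 0 := by
      intro N hN hp3
      refine bs.ext fun j => ?_
      obtain ⟨k, rfl⟩ : ∃ k, p = k + 3 := ⟨p - 3, by omega⟩
      rcases hN j with h | h
      · rw [show k + 3 = k + 1 + 2 from rfl, pow_add, Module.End.mul_apply, h, map_zero,
          LinearMap.zero_apply]
      · rw [pow_add, Module.End.mul_apply, h, map_zero, LinearMap.zero_apply]
    fin_cases i'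
    · refine ⟨comb bs (1 - e' b) 0 0, ?_⟩
      obtain ⟨l0, l1, l2⟩ := lie_comb' hxy hxz hyz (1 - e' b) 0 0
      refine end_ext bs ?_ ?_ ?_
      · change (LieAlgebra.ad (DualNumber K) L (bs 0) ^ p) (bs 0) = _
        rw [ad_pow_self _ hpr.one_le, LieAlgebra.ad_apply, l0, ← comb_zero (bs := bs), comb_eq]
        simp
      · change (LieAlgebra.ad (DualNumber K) L (bs 0) ^ p) (bs 1) = _
        rw [hxp.1, LieAlgebra.ad_apply, l1, comb_eq, hcS.1]
        refine ⟨?_, ?_, ?_⟩ <;> apply ext2 <;> simp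
      · change (LieAlgebra.ad (DualNumber K) L (bs 0) ^ p) (bs 2) = _
        rw [hxp.2, LieAlgebra.ad_apply, l2, comb_eq, hcS.2]
        refine ⟨?_, ?_, ?_⟩ <;> apply ext2 <;>
          simp [TrivSqZeroExt.algebraMap_eq_inl, ← hbt, mul_comm]
    · rcases eq_or_ne p 2 with rfl | hp2
      · refine ⟨comb bs 0 (-e' a) 0, ?_⟩
        obtain ⟨l0, l1, l2⟩ := lie_comb' hxy hxz hyz 0 (-e' a) 0
        refine end_ext bs ?_ ?_ ?_
        · change (Ny ^ 2) (bs 0) = _
          rw [y2x, LieAlgebra.ad_apply, l0, comb_eq]; refine ⟨?_, ?_, ?_⟩ <;> apply ext2 <;> simp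
        · change (Ny ^ 2) (bs 1) = _
          rw [y2y, LieAlgebra.ad_apply, l1, comb_eq]; refine ⟨?_, ?_, ?_⟩ <;> apply ext2 <;> simp
        · change (Ny ^ 2) (bs 2) = _
          rw [y2z, LieAlgebra.ad_apply, l2, comb_eq, hg2 rfl]; refine ⟨?_, ?_, ?_⟩ <;> apply ext2 <;> simp
      · refine ⟨0, ?_⟩
        rw [map_zero]
        refine hzero Ny (fun j => Or.inr ?_) (by have := hpr.two_le; omega)
        rw [pow_succ', Module.End.mul_apply]
        fin_cases j <;> first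
          | (change Ny ((Ny ^ 2) (bs 0)) = 0; rw [y2x, map_comb' Ny hyx hy1 hy2]; refine Eq.trans (comb_eq.2 ⟨?_, ?_, ?_⟩) comb_zero <;> apply ext2 <;> simp)
          | (change Ny ((Ny ^ 2) (bs 1)) = 0; rw [y2y, comb_zero, map_zero])
          | (change Ny ((Ny ^ 2) (bs 2)) = 0; rw [y2z, map_comb' Ny hyx hy1 hy2]; refine Eq.trans (comb_eq.2 ⟨?_, ?_, ?_⟩) comb_zero <;> apply ext2 <;> simp)
    · rcases eq_or_ne p 2 with rfl | hp2
      · refine ⟨comb bs 0 0 (-e' d), ?_⟩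
        obtain ⟨l0, l1, l2⟩ := lie_comb' hxy hxz hyz 0 0 (-e' d)
        refine end_ext bs ?_ ?_ ?_
        · change (Nz ^ 2) (bs 0) = _
          rw [z2x, LieAlgebra.ad_apply, l0, comb_eq]
          refine ⟨?_, ?_, ?_⟩ <;> apply ext2 <;> simp [TrivSqZeroExt.algebraMap_eq_inl, mul_comm]
        · change (Nz ^ 2) (bs 1) = _
          rw [z2y, LieAlgebra.ad_apply, l1, comb_eq, hg2 rfl]; refine ⟨?_, ?_, ?_⟩ <;> apply ext2 <;> simp
        · change (Nz ^ 2) (bs 2) = _
          rw [z2z, LieAlgebra.ad_apply, l2, comb_eq]; refine ⟨?_, ?_, ?_⟩ <;> apply ext2 <;> simp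
      · refine ⟨0, ?_⟩
        rw [map_zero]
        refine hzero Nz (fun j => Or.inr ?_) (by have := hpr.two_le; omega)
        rw [pow_succ', Module.End.mul_apply]
        fin_cases j <;> first
          | (change Nz ((Nz ^ 2) (bs 0)) = 0; rw [z2x, map_comb' Nz hzx hzy hz2]; refine Eq.trans (comb_eq.2 ⟨?_, ?_, ?_⟩) comb_zero <;> apply ext2 <;> simp)
          | (change Nz ((Nz ^ 2) (bs 1)) = 0; rw [z2y, map_comb' Nz hzx hzy hz2]; refine Eq.trans (comb_eq.2 ⟨?_, ?_, ?_⟩) comb_zero <;> apply ext2 <;> simp)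
          | (change Nz ((Nz ^ 2) (bs 2)) = 0; rw [z2z, comb_zero, map_zero])

end PLieLib.L3Def
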