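import Groth.Agent.PLieLib.Exists
import Mathlib.RingTheory.HopfAlgebra.Basic
import Mathlib.RingTheory.Bialgebra.TensorProduct
import Mathlib.Data.Multiset.Antidiagonal
import Mathlib.Algebra.RingQuot

/-!
# The restricted enveloping algebra as a Hopf algebra

* `Env φ`: the quotient of the enveloping algebra by `x ^ p = x ^ (p)`.
* `reduced monomials form a basis` (`linearIndependent_mon`, `mem_span_mon`).
* primitive elements are the elements of the Lie algebra (`exists_inj_of_primitive`).
-/

universe u

noncomputable section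

open scoped TensorProduct
open Coalgebra

attribute [local instance 100] LieRing.ofAssociativeRing

namespace Groth.Agent.REnv

open _root_.PLieLib

variable {k : Type u} [CommRing k] {p : ℕ} [hp : Fact p.Prime] [CharP k p]
  {L : Type u} [LieRing L] [LieAlgebra k L] (φ : PLie.PMap k p L)

local notation "UE" => UniversalEnvelopingAlgebra k L

/-- `p`-th powers are identified with the `p`-map -/
inductive Rel : UE → UE → Prop
  | pow_p (x : L) : Rel (UniversalEnvelopingAlgebra.ι k (φ x)) (UniversalEnvelopingAlgebra.ι k x ^ p)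

/-- the restricted enveloping algebra -/
abbrev Env : Type u := RingQuot (Rel φ)

/-- the map from the Lie algebra -/
def inj : L →ₗ[k] Env φ :=
  (RingQuot.mkAlgHom k (Rel φ)).toLinearMap ∘ₗ (UniversalEnvelopingAlgebra.ι k : L →ₗ⁅k⁆ UE).toLinearMap

theorem inj_apply (x : L) : inj φ x = RingQuot.mkAlgHom k (Rel φ) (UniversalEnvelopingAlgebra.ι k x) := rfl

theorem inj_pow (x : L) : inj φ x ^ p = inj φ (φ x) := by
  rw [inj_apply, ← map_pow]
  exact (RingQuot.mkAlgHom_rel k (Rel.pow_p x)).symm

theorem inj_lie (x y : L) : inj φ ⁅x, y⁆ = inj φ x * inj φ y - inj φ y * inj φ x := by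
  simp only [inj_apply, ← map_mul, ← map_sub]
  exact congrArg _ ((UniversalEnvelopingAlgebra.ι k).map_lie x y)

theorem induction_env {P : Env φ → Prop} (halg : ∀ r, P (algebraMap k (Env φ) r)) (hι : ∀ x, P (inj φ x))
    (hmul : ∀ a b, P a → P b → P (a * b)) (hadd : ∀ a b, P a → P b → P (a + b)) (u : Env φ) : P u := by
  obtain ⟨u, rfl⟩ := RingQuot.mkAlgHom_surjective k (Rel φ) u
  obtain ⟨t, rfl⟩ : ∃ t, UniversalEnvelopingAlgebra.mkAlgHom k L t = u := RingCon.mkₐ_surjective _ u
  induction t using TensorAlgebra.induction with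
  | algebraMap r => rw [AlgHom.commutes, AlgHom.commutes]; exact halg r
  | ι x => exact hι x
  | mul a b ha hb => rw [map_mul, map_mul]; exact hmul _ _ ha hb
  | add a b ha hb => rw [map_add, map_add]; exact hadd _ _ ha hb

theorem env_hom_ext {B : Type u} [Ring B] [Algebra k B] {f g : Env φ →ₐ[k] B} (h : ∀ x, f (inj φ x) = g (inj φ x)) :
    f = g := by
  refine AlgHom.ext fun u => ?_
  induction u using induction_env φ with
  | halg r => rw [AlgHom.commutes, AlgHom.commutes]
  | hι x => exact h x
  | hmul a b ha hb => rw [map_mul, map_mul, ha, hb]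
  | hadd a b ha hb => rw [map_add, map_add, ha, hb]

/-- the universal property -/
def liftEnv {B : Type u} [Ring B] [Algebra k B] (f : L →ₗ⁅k⁆ B) (hf : ∀ x, f (φ x) = f x ^ p) : Env φ →ₐ[k] B :=
  RingQuot.liftAlgHom k ⟨UniversalEnvelopingAlgebra.lift k f, fun a b h => by
    cases h with
    | pow_p x => rw [map_pow, UniversalEnvelopingAlgebra.lift_ι_apply, UniversalEnvelopingAlgebra.lift_ι_apply, hf]⟩

theorem liftEnv_inj {B : Type u} [Ring B] [Algebra k B] (f : L →ₗ⁅k⁆ B) (hf : ∀ x, f (φ x) = f x ^ p) (x : L) :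
    liftEnv φ f hf (inj φ x) = f x := by
  rw [inj_apply, liftEnv, RingQuot.liftAlgHom_mkAlgHom_apply, UniversalEnvelopingAlgebra.lift_ι_apply]

omit [CharP k p] in
theorem pow_add_of_commute {B : Type u} [Ring B] [Algebra k B] [CharP k p] {a b : B} (h : Commute a b) :
    (a + b) ^ p = a ^ p + b ^ p := by
  obtain ⟨r, hr⟩ := h.exists_add_pow_prime_eq hp.out
  rw [hr, ← map_natCast (algebraMap k B) p, CharP.cast_eq_zero, map_zero, zero_mul, zero_mul, zero_mul, add_zero]

theorem pow_tmul_one (x : L) : (inj φ x ⊗ₜ[k] (1 : Env φ)) ^ p = inj φ (φ x) ⊗ₜ[k] 1 := by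
  rw [Algebra.TensorProduct.tmul_pow, one_pow, inj_pow]

theorem pow_one_tmul (x : L) : ((1 : Env φ) ⊗ₜ[k] inj φ x) ^ p = 1 ⊗ₜ[k] inj φ (φ x) := by
  rw [Algebra.TensorProduct.tmul_pow, one_pow, inj_pow]

/-- the Lie map defining the comultiplication -/
def comulLie : L →ₗ⁅k⁆ Env φ ⊗[k] Env φ where
  toLinearMap := ((TensorProduct.mk k (Env φ) (Env φ)).flip 1).comp (inj φ) +
    ((TensorProduct.mk k (Env φ) (Env φ)) 1).comp (inj φ)
  map_lie' {x y} := by
    simp [LieRing.of_associative_ring_bracket, inj_lie, TensorProduct.sub_tmul, TensorProduct.tmul_sub, add_mul, mul_add]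
    abel

theorem comulLie_apply (x : L) : comulLie φ x = inj φ x ⊗ₜ[k] 1 + 1 ⊗ₜ[k] inj φ x := rfl

/-- the comultiplication -/
def Δ : Env φ →ₐ[k] Env φ ⊗[k] Env φ := liftEnv φ (comulLie φ) fun x => by
  rw [comulLie_apply, comulLie_apply, pow_add_of_commute (k := k) (by simp [Commute, SemiconjBy]), pow_tmul_one,
    pow_one_tmul]

theorem Δ_inj (x : L) : Δ φ (inj φ x) = inj φ x ⊗ₜ[k] 1 + 1 ⊗ₜ[k] inj φ x := liftEnv_inj φ _ _ x

/-- the counit -/
def ε : Env φ →ₐ[k] k := liftEnv φ (0 : L →ₗ⁅k⁆ k) fun x => by simp [zero_pow hp.out.ne_zero]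

theorem ε_inj (x : L) : ε φ (inj φ x) = 0 := liftEnv_inj φ _ _ x

instance instBialgebra : Bialgebra k (Env φ) :=
  Bialgebra.ofAlgHom (Δ φ) (ε φ)
    (env_hom_ext φ fun x => by simp [Δ_inj, TensorProduct.add_tmul, TensorProduct.tmul_add, Algebra.TensorProduct.one_def]; abel)
    (env_hom_ext φ fun x => by simp [Δ_inj, ε_inj])
    (env_hom_ext φ fun x => by simp [Δ_inj, ε_inj])

theorem comul_eq (u : Env φ) : comul (R := k) u = Δ φ u := rfl

theorem counit_eq (u : Env φ) : counit (R := k) u = ε φ u := rfl

/-- the Lie map defining the antipode -/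
def antiLie : L →ₗ⁅k⁆ (Env φ)ᵐᵒᵖ where
  toLinearMap := -((MulOpposite.opLinearEquiv k).toLinearMap ∘ₗ inj φ)
  map_lie' {x y} := by
    apply MulOpposite.unop_injective
    simp [LieRing.of_associative_ring_bracket, inj_lie]

theorem antiLie_apply (x : L) : antiLie φ x = MulOpposite.op (-inj φ x) := rfl

/-- the antipode as an anti-homomorphism -/
def Sop : Env φ →ₐ[k] (Env φ)ᵐᵒᵖ := liftEnv φ (antiLie φ) fun x => by
  apply MulOpposite.unop_injective
  rw [antiLie_apply, antiLie_apply, MulOpposite.unop_pow, MulOpposite.unop_op, MulOpposite.unop_op, ← inj_pow]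
  have h := pow_add_of_commute (k := k) (p := p) (Commute.neg_right (Commute.refl (inj φ x)))
  rw [add_neg_cancel, zero_pow hp.out.ne_zero, eq_comm, add_eq_zero_iff_neg_eq] at h
  exact h

/-- the antipode -/
def S : Env φ →ₗ[k] Env φ := (MulOpposite.opLinearEquiv k).symm.toLinearMap ∘ₗ (Sop φ).toLinearMap

theorem S_inj (x : L) : S φ (inj φ x) = -inj φ x := by
  change MulOpposite.unop (Sop φ (inj φ x)) = _
  rw [Sop, liftEnv_inj]; rfl

theorem S_mul (a b : Env φ) : S φ (a * b) = S φ b * S φ a := by
  change MulOpposite.unop (Sop φ (a * b)) = _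
  rw [map_mul]; rfl

theorem S_one : S φ 1 = 1 := by
  change MulOpposite.unop (Sop φ 1) = _
  rw [map_one]; rfl

theorem rTensor_aux (u v : Env φ ⊗[k] Env φ) (c : k)
    (hu : LinearMap.mul' k _ ((S φ).rTensor _ u) = algebraMap k _ c) :
    LinearMap.mul' k _ ((S φ).rTensor _ (u * v)) = c • LinearMap.mul' k _ ((S φ).rTensor _ v) := by
  induction v using TensorProduct.induction_on with
  | zero => simp
  | add a b ha hb => simp only [mul_add, map_add, ha, hb, smul_add]
  | tmul a b =>
    have key : LinearMap.mul' k _ ((S φ).rTensor _ (u * a ⊗ₜ[k] b)) =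
        S φ a * LinearMap.mul' k _ ((S φ).rTensor _ u) * b := by
      clear hu
      induction u using TensorProduct.induction_on with
      | zero => simp
      | add c d hc hd => simp only [add_mul, map_add, hc, hd, mul_add]
      | tmul c d => simp [S_mul, mul_assoc]
    rw [key, hu, ← Algebra.commutes, mul_assoc, ← Algebra.smul_def]
    simp

theorem lTensor_aux (u v : Env φ ⊗[k] Env φ) (c : k)
    (hv : LinearMap.mul' k _ ((S φ).lTensor _ v) = algebraMap k _ c) :
    LinearMap.mul' k _ ((S φ).lTensor _ (u * v)) = c • LinearMap.mul' k _ ((S φ).lTensor _ u) := by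
  induction u using TensorProduct.induction_on with
  | zero => simp
  | add a b ha hb => simp only [add_mul, map_add, ha, hb, smul_add]
  | tmul a b =>
    have key : LinearMap.mul' k _ ((S φ).lTensor _ (a ⊗ₜ[k] b * v)) =
        a * LinearMap.mul' k _ ((S φ).lTensor _ v) * S φ b := by
      clear hv
      induction v using TensorProduct.induction_on with
      | zero => simp
      | add c d hc hd => simp only [mul_add, map_add, hc, hd, add_mul]
      | tmul c d => simp [S_mul, mul_assoc]
    rw [key, hv, ← Algebra.commutes, mul_assoc, ← Algebra.smul_def]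
    simp

instance instHopf : HopfAlgebra k (Env φ) where
  antipode := S φ
  mul_antipode_rTensor_comul := by
    refine LinearMap.ext fun u => ?_
    change LinearMap.mul' k _ ((S φ).rTensor _ (Δ φ u)) = algebraMap k _ (ε φ u)
    induction u using induction_env φ with
    | halg r =>
      rw [AlgHom.commutes, AlgHom.commutes, Algebra.algebraMap_eq_smul_one, map_smul, map_smul,
        Algebra.TensorProduct.one_def, LinearMap.rTensor_tmul, LinearMap.mul'_apply, S_one, mul_one,
        Algebra.algebraMap_self, RingHom.id_apply, Algebra.algebraMap_eq_smul_one]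
    | hι x => simp [Δ_inj, ε_inj, S_inj, S_one]
    | hmul a b ha hb => rw [map_mul, rTensor_aux φ _ _ _ ha, hb, map_mul, map_mul, Algebra.smul_def]
    | hadd a b ha hb => simp only [map_add, ha, hb]
  mul_antipode_lTensor_comul := by
    refine LinearMap.ext fun u => ?_
    change LinearMap.mul' k _ ((S φ).lTensor _ (Δ φ u)) = algebraMap k _ (ε φ u)
    induction u using induction_env φ with
    | halg r =>
      rw [AlgHom.commutes, AlgHom.commutes, Algebra.algebraMap_eq_smul_one, map_smul, map_smul,
        Algebra.TensorProduct.one_def, LinearMap.lTensor_tmul, LinearMap.mul'_apply, S_one, mul_one,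
        Algebra.algebraMap_self, RingHom.id_apply, Algebra.algebraMap_eq_smul_one]
    | hι x => simp [Δ_inj, ε_inj, S_inj, S_one]
    | hmul a b ha hb => rw [map_mul, lTensor_aux φ _ _ _ hb, ha, Algebra.smul_def, ← map_mul, map_mul (ε φ),
        mul_comm]
    | hadd a b ha hb => simp only [map_add, ha, hb]

instance instCocomm : IsCocomm k (Env φ) where
  comm_comp_comul := by
    refine LinearMap.ext fun u => ?_
    have h : (Algebra.TensorProduct.comm k (Env φ) (Env φ)).toAlgHom.comp (Δ φ) = Δ φ :=
      env_hom_ext φ fun x => by simp [Δ_inj, add_comm]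
    exact AlgHom.congr_fun h u

section Basis

variable {ι : Type u} [LinearOrder ι] (b : Module.Basis ι k L)

theorem adCond : AdCond p b (fun i => φ (b i)) := fun i => (φ.ad_map (b i)).symm

/-- the image of an ordered monomial -/
def monE (s : Multiset ι) : Env φ := RingQuot.mkAlgHom k (Rel φ) (PBW.mon b s)

theorem monE_zero : monE φ b 0 = 1 := by rw [monE, PBW.mon_zero, map_one]

theorem monE_cons {j : ι} {t : Multiset ι} (h : PBW.Le j t) : monE φ b (j ::ₘ t) = inj φ (b j) * monE φ b t := by
  rw [monE, PBW.mon_cons b h, map_mul]; rfl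

theorem monE_singleton (j : ι) : monE φ b {j} = inj φ (b j) := by
  rw [← Multiset.cons_zero, monE_cons φ b (fun a ha => absurd ha (Multiset.notMem_zero a)), monE_zero, mul_one]

/-- the faithful representation -/
theorem exists_lift_W : ∃ P : Env φ →ₐ[k] Module.End k (W p b (fun i => φ (b i))),
    ∀ u : UE, ∀ v, P (RingQuot.mkAlgHom k (Rel φ) u) (Submodule.Quotient.mk v) =
      Submodule.Quotient.mk (UniversalEnvelopingAlgebra.lift k (PBW.act b) u v) := by
  have hy := adCond φ b
  obtain ⟨ψ, hψ⟩ := exists_pmap_of_embedding (p := p) (rep hy) (rep_injective hy) b.span_eq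
    (by rintro _ ⟨i, rfl⟩; exact ⟨φ (b i), (rep_pow hy i).symm⟩)
  obtain rfl : φ = ψ := pmap_eq_of_span b.span_eq (by
    rintro _ ⟨i, rfl⟩; exact rep_injective hy (by rw [hψ, rep_pow hy i]))
  refine ⟨liftEnv φ (rep hy) hψ, fun u v => ?_⟩
  rw [liftEnv, RingQuot.liftAlgHom_mkAlgHom_apply]
  obtain ⟨t, rfl⟩ : ∃ t, UniversalEnvelopingAlgebra.mkAlgHom k L t = u := RingCon.mkₐ_surjective _ u
  induction t using TensorAlgebra.induction generalizing v with
  | algebraMap r => simp [Algebra.algebraMap_eq_smul_one]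
  | ι x =>
    change UniversalEnvelopingAlgebra.lift k (rep hy) (UniversalEnvelopingAlgebra.ι k x) _ = _
    rw [UniversalEnvelopingAlgebra.lift_ι_apply, UniversalEnvelopingAlgebra.lift_ι_apply', rep_apply]
  | mul a c ha hc => rw [map_mul, map_mul, map_mul, Module.End.mul_apply, Module.End.mul_apply, hc, ha]
  | add a c ha hc => rw [map_add, map_add, map_add, LinearMap.add_apply, LinearMap.add_apply, ha, hc,
      Submodule.Quotient.mk_add]

/-- evaluation at the empty monomial -/
theorem exists_eval : ∃ Φ : Env φ →ₗ[k] W p b (fun i => φ (b i)),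
    ∀ s, Φ (monE φ b s) = Submodule.Quotient.mk (PBW.z s) := by
  obtain ⟨P, hP⟩ := exists_lift_W φ b
  refine ⟨(LinearMap.applyₗ (Submodule.Quotient.mk (PBW.z 0))).comp P.toLinearMap, fun s => ?_⟩
  change P (monE φ b s) _ = _
  rw [monE, hP, PBW.lift_mon b _ s rfl]

/-- reduced multisets -/
abbrev Red (p : ℕ) (ι : Type u) [DecidableEq ι] := {s : Multiset ι // ∀ i, s.count i < p}

theorem linearIndependent_monE : LinearIndependent k (fun s : Red p ι => monE φ b s.1) := by
  have hy := adCond φ b
  obtain ⟨Φ, hΦ⟩ := exists_eval φ b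
  refine LinearIndependent.of_comp Φ ?_
  rw [linearIndependent_iff]
  intro l hl
  have h1 : Φ ∘ (fun s : Red p ι => monE φ b s.1) = fun s => (Q p b fun i => φ (b i)).mkQ (PBW.z s.1) :=
    funext fun s => hΦ s.1
  rw [h1, Finsupp.linearCombination_apply] at hl
  let v : PBW.Mo k ι := l.embDomain (Function.Embedding.subtype _)
  have hl' : (Q p b fun i => φ (b i)).mkQ (l.sum fun s a => a • PBW.z (k := k) s.1) = 0 := by
    rw [map_finsuppSum]
    simpa only [map_smul] using hl
  have hv : (l.sum fun s a => a • PBW.z (k := k) s.1) = theta p b (fun i => φ (b i)) v := by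
    rw [theta, Finsupp.linearCombination_embDomain, Finsupp.linearCombination_apply]
    refine Finsupp.sum_congr fun s _ => ?_
    rw [Function.comp_apply, Function.Embedding.subtype_apply, M_of_reduced s.2]
  rw [hv, Submodule.mkQ_apply, Submodule.Quotient.mk_eq_zero] at hl'
  obtain ⟨w, hw, hwv⟩ := Submodule.mem_map.1 hl'
  obtain rfl : w = v := theta_injective hy hwv
  refine Finsupp.ext fun s => ?_
  have h2 := (Finsupp.mem_supported' k _).1 hw s.1 (by
    simp only [Set.mem_ofPred_eq, not_exists, not_le]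
    exact s.2)
  rw [Finsupp.zero_apply]
  rw [show v s.1 = l s from Finsupp.embDomain_apply_self _ _ _] at h2
  exact h2

/-- the monomial map to the restricted enveloping algebra -/
def ΨE : PBW.Mo k ι →ₗ[k] Env φ := (RingQuot.mkAlgHom k (Rel φ)).toLinearMap ∘ₗ PBW.Ψ b

theorem ΨE_z (s : Multiset ι) : ΨE φ b (PBW.z s) = monE φ b s := by
  change RingQuot.mkAlgHom k (Rel φ) (PBW.Ψ b (PBW.z s)) = _
  rw [PBW.Ψ_z]; rfl

theorem ΨE_act (x : L) (v : PBW.Mo k ι) : ΨE φ b (PBW.act b x v) = inj φ x * ΨE φ b v := by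
  change RingQuot.mkAlgHom k (Rel φ) (PBW.Ψ b (PBW.act b x v)) = _
  rw [PBW.Ψ_act, map_mul]; rfl

theorem ΨE_pow (x : L) (n : ℕ) (v : PBW.Mo k ι) : ΨE φ b ((PBW.act b x ^ n) v) = inj φ x ^ n * ΨE φ b v := by
  induction n generalizing v with
  | zero => simp
  | succ n ih => rw [pow_succ, Module.End.mul_apply, ih, ΨE_act, pow_succ, mul_assoc]

theorem span_monE : Submodule.span k (Set.range fun s : Red p ι => monE φ b s.1) = ⊤ := by
  have hy := adCond φ b
  let y : ι → L := fun i => φ (b i)
  have hQ : Q p b y ≤ LinearMap.ker (ΨE φ b) := by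
    rw [Q, Submodule.map_le_iff_le_comap, Finsupp.supported_eq_span_single, Submodule.span_le]
    rintro _ ⟨s, ⟨i, hi⟩, rfl⟩
    obtain ⟨t, rfl⟩ := Multiset.le_iff_exists_add.1 (Multiset.le_count_iff_replicate_le.1 hi)
    show ΨE φ b (theta p b y (PBW.z (Multiset.replicate p i + t))) = 0
    rw [theta_z, ← cen_M hy _ t i rfl, cen, LinearMap.sub_apply, map_sub, ΨE_pow, ΨE_act, inj_pow, sub_self]
  have hle : LinearMap.range (ΨE φ b) ≤ Submodule.span k (Set.range fun s : Red p ι => monE φ b s.1) := by
    rintro _ ⟨v, rfl⟩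
    obtain ⟨w, rfl⟩ := theta_surjective (p := p) hy v
    induction w using Finsupp.induction_linear with
    | zero => simp
    | add f g hf hg => rw [map_add, map_add]; exact add_mem hf hg
    | single s a =>
      rw [theta, Finsupp.linearCombination_single, map_smul]
      refine Submodule.smul_mem _ _ ?_
      by_cases h : ∀ i, s.count i < p
      · rw [M_of_reduced h, ΨE_z]
        exact Submodule.subset_span ⟨⟨s, h⟩, rfl⟩
      · simp only [not_forall, not_lt] at h
        have h0 : ΨE φ b (M p b y s) = 0 := by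
          rw [← theta_z (p := p) (b := b) (y := y) s]
          exact hQ (Submodule.mem_map_of_mem (Finsupp.single_mem_supported k (1 : k) h))
        rw [show (fun i => φ (b i)) = y from rfl, h0]
        exact zero_mem _
  rw [eq_top_iff]
  intro u hu
  clear hu
  apply hle
  suffices h : ∀ v, u * ΨE φ b v ∈ LinearMap.range (ΨE φ b) by
    have h1 := h (PBW.z 0)
    rwa [ΨE_z, monE_zero, mul_one] at h1
  induction u using induction_env φ with
  | halg r => intro v; rw [← Algebra.smul_def, ← map_smul]; exact LinearMap.mem_range_self _ _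
  | hι x => intro v; rw [← ΨE_act]; exact LinearMap.mem_range_self _ _
  | hmul a c ha hc =>
    intro v
    obtain ⟨w, hw⟩ := hc v
    rw [mul_assoc, ← hw]; exact ha w
  | hadd a c ha hc => intro v; rw [add_mul]; exact add_mem (ha v) (hc v)

/-- the comultiplication of an ordered monomial -/
theorem Δ_monE : ∀ (n : ℕ) (s : Multiset ι), Multiset.card s = n →
    Δ φ (monE φ b s) = (s.antidiagonal.map fun q => monE φ b q.1 ⊗ₜ[k] monE φ b q.2).sum := by
  intro n
  induction n with
  | zero =>
    intro s hs
    obtain rfl := Multiset.card_eq_zero.mp hs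
    simp [monE_zero, Algebra.TensorProduct.one_def]
  | succ n ih =>
    intro s hs
    obtain ⟨j, hj, hle⟩ : ∃ j ∈ s, ∀ a ∈ s, j ≤ a := by
      have hne : s.toFinset.Nonempty := by
        obtain ⟨a, ha⟩ := Multiset.card_pos_iff_exists_mem.mp (by omega : 0 < Multiset.card s)
        exact ⟨a, Multiset.mem_toFinset.mpr ha⟩
      exact ⟨_, Multiset.mem_toFinset.mp (s.toFinset.min'_mem hne),
        fun a ha => s.toFinset.min'_le a (Multiset.mem_toFinset.mpr ha)⟩
    obtain ⟨t, rfl⟩ := Multiset.exists_cons_of_mem hj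
    have hjt : PBW.Le j t := fun a ha => hle a (Multiset.mem_cons_of_mem ha)
    rw [Multiset.card_cons, add_left_inj] at hs
    rw [monE_cons φ b hjt, map_mul, Δ_inj, ih t hs, Multiset.antidiagonal_cons, Multiset.map_add, Multiset.sum_add,
      add_mul, ← Multiset.sum_map_mul_left, ← Multiset.sum_map_mul_left, Multiset.map_map, Multiset.map_map, add_comm]
    have hsub : ∀ q ∈ t.antidiagonal, PBW.Le j q.1 ∧ PBW.Le j q.2 := fun q hq => by
      rw [Multiset.mem_antidiagonal] at hq
      exact ⟨fun a ha => hjt a (hq ▸ Multiset.mem_add.mpr (Or.inl ha)),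
        fun a ha => hjt a (hq ▸ Multiset.mem_add.mpr (Or.inr ha))⟩
    congr 1 <;> refine congrArg Multiset.sum (Multiset.map_congr rfl fun q hq => ?_) <;>
      simp [monE_cons φ b (hsub q hq).1, monE_cons φ b (hsub q hq).2]

omit [LinearOrder ι] in
theorem sum_antidiagonal_zero [DecidableEq ι] {N : Type u} [AddCommMonoid N] (F : Multiset ι → N) (s : Multiset ι) :
    (s.antidiagonal.map fun q => if q.1 = 0 then F q.2 else 0).sum = F s := by
  induction s using Multiset.induction_on generalizing F with
  | empty => simp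
  | cons a s ih =>
    rw [Multiset.antidiagonal_cons, Multiset.map_add, Multiset.sum_add, Multiset.map_map, Multiset.map_map]
    have h1 := ih (fun u => F (a ::ₘ u))
    simp only [Function.comp_def, Prod.map_fst, Prod.map_snd, id, Multiset.cons_ne_zero, if_false,
      Multiset.map_const', Multiset.sum_replicate, smul_zero, add_zero]
    exact h1

omit [LinearOrder ι] in
theorem sum_antidiagonal_singleton [DecidableEq ι] {N : Type u} [AddCommMonoid N] (j : ι) (F : Multiset ι → N)
    (s : Multiset ι) :
    (s.antidiagonal.map fun q => if q.1 = {j} then F q.2 else 0).sum = s.count j • F (s.erase j) := by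
  induction s using Multiset.induction_on generalizing F with
  | empty =>
    simp [(Multiset.singleton_ne_zero j).symm]
  | cons a s ih =>
    rw [Multiset.antidiagonal_cons, Multiset.map_add, Multiset.sum_add, Multiset.map_map, Multiset.map_map]
    simp only [Function.comp_def, Prod.map_fst, Prod.map_snd, id]
    rw [ih (fun u => F (a ::ₘ u))]
    by_cases h : a = j
    · subst h
      have h0 : ∀ u : Multiset ι, (a ::ₘ u = {a}) ↔ u = 0 := fun u => by
        rw [← Multiset.cons_zero, Multiset.cons_inj_right]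
      simp only [h0]
      rw [sum_antidiagonal_zero F s, Multiset.count_cons_self, Multiset.erase_cons_head, succ_nsmul]
      by_cases hm : a ∈ s
      · rw [Multiset.cons_erase hm]
      · rw [Multiset.count_eq_zero.mpr hm, zero_smul, zero_smul]
    · have h0 : ∀ u : Multiset ι, a ::ₘ u ≠ {j} := fun u hu => h (Multiset.mem_singleton.mp
        (hu ▸ Multiset.mem_cons_self a u))
      simp only [h0, if_false, Multiset.map_const', Multiset.sum_replicate, smul_zero, add_zero]
      rw [Multiset.count_cons_of_ne (Ne.symm h), Multiset.erase_cons_tail _ h]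

theorem ε_monE {s : Multiset ι} (hs : s ≠ 0) : ε φ (monE φ b s) = 0 := by
  have hne : s.toFinset.Nonempty := by
    obtain ⟨a, ha⟩ := Multiset.exists_mem_of_ne_zero hs
    exact ⟨a, Multiset.mem_toFinset.mpr ha⟩
  obtain ⟨t, ht⟩ := Multiset.exists_cons_of_mem (Multiset.mem_toFinset.mp (s.toFinset.min'_mem hne))
  have hle : PBW.Le (s.toFinset.min' hne) t := fun c hc =>
    s.toFinset.min'_le c (Multiset.mem_toFinset.mpr (ht ▸ Multiset.mem_cons_of_mem hc))
  rw [ht, monE_cons φ b hle, map_mul, ε_inj, zero_mul]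

/-- the basis of reduced monomials -/
def basisRed : Module.Basis (Red p ι) k (Env φ) :=
  Module.Basis.mk (linearIndependent_monE φ b) (span_monE φ b).ge

theorem basisRed_apply (s : Red p ι) : basisRed φ b s = monE φ b s.1 := Module.Basis.mk_apply _ _ s

theorem finite_red [Finite ι] : Finite (Red p ι) := by
  haveI := Fintype.ofFinite ι
  refine Finite.of_injective (fun s : Red p ι => fun i => (⟨s.1.count i, s.2 i⟩ : Fin p)) fun s t h => ?_
  exact Subtype.ext (Multiset.ext.mpr fun i => congrArg Fin.val (congrFun h i))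

include b in
/-- primitive elements lie in the Lie algebra -/
theorem exists_inj_of_primitive [IsDomain k] {ξ : Env φ} (hξ : Δ φ ξ = ξ ⊗ₜ[k] 1 + 1 ⊗ₜ[k] ξ) :
    ∃ x, inj φ x = ξ := by
  classical
  let B := basisRed φ b
  let c := B.repr ξ
  have hsingle : ∀ j : ι, ∀ i, ({j} : Multiset ι).count i < p := fun j i => by
    have h1 := Multiset.count_le_card i ({j} : Multiset ι)
    rw [Multiset.card_singleton] at h1
    have := hp.out.two_le; omega
  have hzero : ∀ i, (0 : Multiset ι).count i < p := fun i => by simp [hp.out.pos]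
  have hξc : ξ = ∑ s ∈ c.support, c s • monE φ b s.1 := by
    conv_lhs => rw [← B.linearCombination_repr ξ]
    rw [Finsupp.linearCombination_apply, Finsupp.sum]
    exact Finset.sum_congr rfl fun s _ => by rw [basisRed_apply]
  have hε : c ⟨0, hzero⟩ = 0 := by
    have h1 := congrArg (fun w => TensorProduct.lid k k (TensorProduct.map (ε φ).toLinearMap (ε φ).toLinearMap w)) hξ
    simp only [map_add, TensorProduct.map_tmul, TensorProduct.lid_tmul, AlgHom.toLinearMap_apply, map_one,
      smul_eq_mul, mul_one, one_mul] at h1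
    have h2 : TensorProduct.lid k k (TensorProduct.map (ε φ).toLinearMap (ε φ).toLinearMap (Δ φ ξ)) = ε φ ξ := by
      rw [← LinearMap.lTensor_comp_rTensor, LinearMap.comp_apply]
      change TensorProduct.lid k k ((counit (R := k) (A := Env φ)).lTensor k
        ((counit (R := k) (A := Env φ)).rTensor (Env φ) (comul ξ))) = _
      rw [Coalgebra.rTensor_counit_comul, LinearMap.lTensor_tmul, TensorProduct.lid_tmul, one_smul]
      rfl
    rw [h2] at h1
    have h3 : ε φ ξ = 0 := by simpa using h1
    rw [hξc, map_sum, Finset.sum_eq_single ⟨0, hzero⟩] at h3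
    · simpa [monE_zero] using h3
    · intro s _ hs
      rw [map_smul, ε_monE φ b (fun h => hs (Subtype.ext h)), smul_zero]
    · intro h; simp [Finsupp.notMem_support_iff.mp h]
  have hc : ∀ s : Red p ι, 2 ≤ Multiset.card s.1 → c s = 0 := by
    intro s hs
    obtain ⟨j, hj⟩ := Multiset.card_pos_iff_exists_mem.mp (by omega : 0 < Multiset.card s.1)
    let δ : Env φ →ₗ[k] k := B.coord ⟨{j}, hsingle j⟩
    have hδ : ∀ u : Multiset ι, (∀ i, u.count i < p) → δ (monE φ b u) = if u = {j} then 1 else 0 := fun u hu => by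
      rw [← basisRed_apply φ b ⟨u, hu⟩, Module.Basis.coord_apply, Module.Basis.repr_self, Finsupp.single_apply]
      simp [Subtype.ext_iff]
    let E : Env φ →ₗ[k] Env φ :=
      (TensorProduct.lid k (Env φ)).toLinearMap ∘ₗ δ.rTensor (Env φ) ∘ₗ (Δ φ).toLinearMap
    have hE : ∀ u : Red p ι, E (monE φ b u.1) = u.1.count j • monE φ b (u.1.erase j) := fun u => by
      change TensorProduct.lid k (Env φ) (δ.rTensor (Env φ) (Δ φ (monE φ b u.1))) = _
      rw [Δ_monE φ b _ u.1 rfl, map_multiset_sum, map_multiset_sum, Multiset.map_map, Multiset.map_map,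
        ← sum_antidiagonal_singleton j (fun v => monE φ b v) u.1]
      refine congrArg Multiset.sum (Multiset.map_congr rfl fun q hq => ?_)
      have hq1 : ∀ i, q.1.count i < p := fun i => lt_of_le_of_lt
        (Multiset.count_le_of_le i (Multiset.le_iff_exists_add.mpr ⟨q.2, (Multiset.mem_antidiagonal.mp hq).symm⟩))
        (u.2 i)
      simp [hδ _ hq1]
    have hred : ∀ i, (s.1.erase j).count i < p := fun i =>
      lt_of_le_of_lt (Multiset.count_le_of_le i (Multiset.erase_le j s.1)) (s.2 i)
    have h1 : E ξ = δ ξ • (1 : Env φ) + δ 1 • ξ := by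
      change TensorProduct.lid k (Env φ) (δ.rTensor (Env φ) (Δ φ ξ)) = _
      rw [hξ]; simp
    have hδ1 : δ 1 = 0 := by
      rw [← monE_zero φ b, hδ 0 hzero, if_neg (Multiset.singleton_ne_zero j).symm]
    rw [hδ1, zero_smul, add_zero] at h1
    have h2 := congrArg (B.coord ⟨s.1.erase j, hred⟩) h1
    have hne : (⟨s.1.erase j, hred⟩ : Red p ι) ≠ ⟨0, hzero⟩ := fun h => by
      have h' := congrArg (fun v : Red p ι => Multiset.card v.1) h
      simp only [Multiset.card_erase_of_mem hj, Multiset.card_zero] at h'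
      exact absurd h' (by simp only [Nat.pred_eq_sub_one]; omega)
    rw [map_smul, show (1 : Env φ) = B ⟨0, hzero⟩ by rw [basisRed_apply, monE_zero]] at h2
    simp only [Module.Basis.coord_apply, Module.Basis.repr_self] at h2
    rw [Finsupp.single_eq_of_ne hne, smul_zero, hξc, map_sum, map_sum, Finsupp.finsetSum_apply,
      Finset.sum_eq_single s] at h2
    · rw [map_smul, hE, ← basisRed_apply φ b ⟨s.1.erase j, hred⟩, map_smul, map_nsmul, Module.Basis.repr_self] at h2
      simp only [Finsupp.smul_apply, Finsupp.single_eq_same, smul_eq_mul, nsmul_eq_mul, mul_one] at h2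
      refine (mul_eq_zero.mp h2).resolve_right fun h0 => ?_
      rw [CharP.cast_eq_zero_iff k p] at h0
      have h1 := Multiset.one_le_count_iff_mem.mpr hj
      have h4 := Nat.le_of_dvd (by omega) h0
      exact absurd (s.2 j) (by omega)
    · intro u _ hu
      rw [map_smul, hE, map_smul, map_nsmul, Finsupp.smul_apply, Finsupp.smul_apply]
      by_cases hju : j ∈ u.1
      · have hru : ∀ i, (u.1.erase j).count i < p := fun i =>
          lt_of_le_of_lt (Multiset.count_le_of_le i (Multiset.erase_le j u.1)) (u.2 i)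
        rw [← basisRed_apply φ b ⟨u.1.erase j, hru⟩, Module.Basis.repr_self, Finsupp.single_eq_of_ne, smul_zero, smul_zero]
        intro h
        refine hu (Subtype.ext ?_)
        have h' : s.1.erase j = u.1.erase j := congrArg Subtype.val h
        rw [← Multiset.cons_erase hju, ← h', Multiset.cons_erase hj]
      · rw [Multiset.count_eq_zero.mpr hju, zero_smul, smul_zero]
    · intro h; simp [Finsupp.notMem_support_iff.mp h]
  have hmem : ξ ∈ LinearMap.range (inj φ) := by
    rw [hξc]
    refine Submodule.sum_mem _ fun s _ => ?_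
    by_cases h2 : 2 ≤ Multiset.card s.1
    · rw [hc s h2, zero_smul]; exact zero_mem _
    · rcases Nat.eq_zero_or_pos (Multiset.card s.1) with h0 | h0
      · obtain rfl : s = ⟨0, hzero⟩ := Subtype.ext (Multiset.card_eq_zero.mp h0)
        rw [hε, zero_smul]; exact zero_mem _
      · obtain ⟨j, hj⟩ := Multiset.card_eq_one.mp (by omega : Multiset.card s.1 = 1)
        rw [hj, monE_singleton]
        exact Submodule.smul_mem _ _ (LinearMap.mem_range_self _ _)
  exact hmem

end Basis

end Groth.Agent.REnv
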