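import Groth.Agent.PLieLib.Exists
import Mathlib.LinearAlgebra.Basis.Basic
import Mathlib.Algebra.DualNumber
import Mathlib.Algebra.BigOperators.Fin

/-!
# Three-dimensional Lie algebras given by structure constants
-/

universe u v

namespace PLieLib

variable {R : Type u} [CommRing R] {L : Type v} [LieRing L] [LieAlgebra R L]
  (bs : Module.Basis (Fin 3) R L)

lemma expand (w : L) :
    w = bs.repr w 0 • bs 0 + bs.repr w 1 • bs 1 + bs.repr w 2 • bs 2 := by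
  conv_lhs => rw [← bs.sum_repr w, Fin.sum_univ_three]

lemma repr_comb (a b c : R) :
    bs.repr (a • bs 0 + b • bs 1 + c • bs 2) 0 = a ∧
      bs.repr (a • bs 0 + b • bs 1 + c • bs 2) 1 = b ∧
      bs.repr (a • bs 0 + b • bs 1 + c • bs 2) 2 = c := by
  refine ⟨?_, ?_, ?_⟩ <;> simp [Finsupp.single_apply]

lemma comb_eq_iff (a b c a' b' c' : R) :
    a • bs 0 + b • bs 1 + c • bs 2 = a' • bs 0 + b' • bs 1 + c' • bs 2 ↔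
      a = a' ∧ b = b' ∧ c = c' := by
  refine ⟨fun h => ?_, fun ⟨h0, h1, h2⟩ => by rw [h0, h1, h2]⟩
  have h0 := congrArg (fun v => bs.repr v 0) h
  have h1 := congrArg (fun v => bs.repr v 1) h
  have h2 := congrArg (fun v => bs.repr v 2) h
  simp only [repr_comb] at h0 h1 h2
  exact ⟨h0, h1, h2⟩

lemma comb_eq_zero_iff (a b c : R) :
    a • bs 0 + b • bs 1 + c • bs 2 = 0 ↔ a = 0 ∧ b = 0 ∧ c = 0 := by
  rw [← comb_eq_iff bs a b c 0 0 0]; simp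

variable {bs}

/-- Bracket of a general element with the basis. -/
lemma lie_comb {A B C p₀ p₁ p₂ q₀ q₁ q₂ r₀ r₁ r₂ : R}
    (hxy : ⁅bs 0, bs 1⁆ = p₀ • bs 0 + p₁ • bs 1 + p₂ • bs 2)
    (hxz : ⁅bs 0, bs 2⁆ = q₀ • bs 0 + q₁ • bs 1 + q₂ • bs 2)
    (hyz : ⁅bs 1, bs 2⁆ = r₀ • bs 0 + r₁ • bs 1 + r₂ • bs 2) :
    ⁅A • bs 0 + B • bs 1 + C • bs 2, bs 0⁆ =
        (-(B * p₀) - C * q₀) • bs 0 + (-(B * p₁) - C * q₁) • bs 1 + (-(B * p₂) - C * q₂) • bs 2 ∧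
    ⁅A • bs 0 + B • bs 1 + C • bs 2, bs 1⁆ =
        (A * p₀ - C * r₀) • bs 0 + (A * p₁ - C * r₁) • bs 1 + (A * p₂ - C * r₂) • bs 2 ∧
    ⁅A • bs 0 + B • bs 1 + C • bs 2, bs 2⁆ =
        (A * q₀ + B * r₀) • bs 0 + (A * q₁ + B * r₁) • bs 1 + (A * q₂ + B * r₂) • bs 2 := by
  have hyx : ⁅bs 1, bs 0⁆ = -(p₀ • bs 0 + p₁ • bs 1 + p₂ • bs 2) := by rw [← hxy, lie_skew]
  have hzx : ⁅bs 2, bs 0⁆ = -(q₀ • bs 0 + q₁ • bs 1 + q₂ • bs 2) := by rw [← hxz, lie_skew]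
  have hzy : ⁅bs 2, bs 1⁆ = -(r₀ • bs 0 + r₁ • bs 1 + r₂ • bs 2) := by rw [← hyz, lie_skew]
  refine ⟨?_, ?_, ?_⟩
  · simp only [add_lie, smul_lie, lie_self, smul_zero, hyx, hzx]; module
  · simp only [add_lie, smul_lie, lie_self, smul_zero, hxy, hzy]; module
  · simp only [add_lie, smul_lie, lie_self, smul_zero, hxz, hyz]; module

variable (bs) in
lemma end_ext {f g : Module.End R L} (h0 : f (bs 0) = g (bs 0)) (h1 : f (bs 1) = g (bs 1))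
    (h2 : f (bs 2) = g (bs 2)) : f = g := by
  refine bs.ext fun i => ?_
  fin_cases i <;> assumption

lemma ad_pow_eq_zero {x : L} {m n : ℕ} (v : L) (hmn : m ≤ n)
    (h : (LieAlgebra.ad R L x ^ m) v = 0) : (LieAlgebra.ad R L x ^ n) v = 0 := by
  obtain ⟨k, rfl⟩ := Nat.exists_eq_add_of_le hmn
  rw [add_comm, pow_add, Module.End.mul_apply, h, map_zero]

lemma ad_pow_self (x : L) {n : ℕ} (hn : 1 ≤ n) : (LieAlgebra.ad R L x ^ n) x = 0 :=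
  ad_pow_eq_zero x hn (by rw [pow_one, LieAlgebra.ad_apply, lie_self])

variable (bs) in
/-- Evaluation of an endomorphism on a combination of the basis vectors. -/
lemma map_comb (f : Module.End R L) {u₀ u₁ u₂ a₀ a₁ a₂ b₀ b₁ b₂ c₀ c₁ c₂ : R}
    (h0 : f (bs 0) = a₀ • bs 0 + a₁ • bs 1 + a₂ • bs 2)
    (h1 : f (bs 1) = b₀ • bs 0 + b₁ • bs 1 + b₂ • bs 2)
    (h2 : f (bs 2) = c₀ • bs 0 + c₁ • bs 1 + c₂ • bs 2) :
    f (u₀ • bs 0 + u₁ • bs 1 + u₂ • bs 2) =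
      (u₀ * a₀ + u₁ * b₀ + u₂ * c₀) • bs 0 + (u₀ * a₁ + u₁ * b₁ + u₂ * c₁) • bs 1 +
        (u₀ * a₂ + u₁ * b₂ + u₂ * c₂) • bs 2 := by
  simp only [map_add, map_smul, h0, h1, h2]; module

variable (bs) in
/-- A combination of the basis vectors, given by coordinates. -/
noncomputable def comb (u₀ u₁ u₂ : R) : L := u₀ • bs 0 + u₁ • bs 1 + u₂ • bs 2

lemma exists_comb (w : L) : ∃ A B C, w = comb bs A B C := ⟨_, _, _, expand bs w⟩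

lemma comb_eq {a b c a' b' c' : R} :
    comb bs a b c = comb bs a' b' c' ↔ a = a' ∧ b = b' ∧ c = c' := comb_eq_iff bs a b c a' b' c'

lemma comb_zero : comb bs 0 0 0 = 0 := by simp [comb]

lemma map_comb' (f : Module.End R L) {u₀ u₁ u₂ a₀ a₁ a₂ b₀ b₁ b₂ c₀ c₁ c₂ : R}
    (h0 : f (bs 0) = comb bs a₀ a₁ a₂) (h1 : f (bs 1) = comb bs b₀ b₁ b₂)
    (h2 : f (bs 2) = comb bs c₀ c₁ c₂) :
    f (comb bs u₀ u₁ u₂) = comb bs (u₀ * a₀ + u₁ * b₀ + u₂ * c₀)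
      (u₀ * a₁ + u₁ * b₁ + u₂ * c₁) (u₀ * a₂ + u₁ * b₂ + u₂ * c₂) :=
  map_comb bs f h0 h1 h2

lemma lie_comb' {p₀ p₁ p₂ q₀ q₁ q₂ r₀ r₁ r₂ : R}
    (hxy : ⁅bs 0, bs 1⁆ = comb bs p₀ p₁ p₂) (hxz : ⁅bs 0, bs 2⁆ = comb bs q₀ q₁ q₂)
    (hyz : ⁅bs 1, bs 2⁆ = comb bs r₀ r₁ r₂) (A B C : R) :
    ⁅comb bs A B C, bs 0⁆ =
        comb bs (-(B * p₀) - C * q₀) (-(B * p₁) - C * q₁) (-(B * p₂) - C * q₂) ∧
    ⁅comb bs A B C, bs 1⁆ = comb bs (A * p₀ - C * r₀) (A * p₁ - C * r₁) (A * p₂ - C * r₂) ∧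
    ⁅comb bs A B C, bs 2⁆ = comb bs (A * q₀ + B * r₀) (A * q₁ + B * r₁) (A * q₂ + B * r₂) :=
  lie_comb hxy hxz hyz

lemma basis_eq_comb : bs 0 = comb bs 1 0 0 ∧ bs 1 = comb bs 0 1 0 ∧ bs 2 = comb bs 0 0 1 := by
  refine ⟨?_, ?_, ?_⟩ <;> simp [comb]

end PLieLib
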